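import Cfsg.Agent.Partition.Basic
import Cfsg.Agent.Coprime.SchurZassenhaus
import Cfsg.Agent.Core.PCore
import Cfsg.Agent.Invol.BaerSuzuki
import Cfsg.Agent.S0205
import Cfsg.Agent.S0606
import Cfsg.Prelude.Def_Solvable

/-!
# Groups in which the centraliser of each element of order `r` is an `r`-group, acting on a normal
abelian `r`-subgroup
-/

set_option autoImplicit false
set_option linter.unusedSectionVars false

open Subgroup
open scoped Pointwise

namespace Cfsg.Agent.Partition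

universe u

variable {G : Type u} [Group G]

/-- The elements outside `N` commute with no nontrivial element of `N`: a Frobenius group. -/
theorem exists_frobenius_complement [Finite G] (N : Subgroup G) [N.Normal] (h1 : N ≠ ⊥) (h2 : N ≠ ⊤)
    (hfree : ∀ g, g ∉ N → ∀ k ∈ N, Commute g k → k = 1) :
    ∃ H : Subgroup G, Cfsg.IsFrobeniusComplement H := by
  have hcop : Nat.Coprime (Nat.card N) N.index := by
    refine Nat.coprime_of_dvd fun p hp hpN hpi => ?_
    have := Fact.mk hp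
    obtain ⟨x, hx⟩ := exists_prime_orderOf_dvd_card' (G := N) p hpN
    have hx' : orderOf (x : G) = p := by rw [Subgroup.orderOf_coe]; exact hx
    obtain ⟨P, hP⟩ := (IsPGroup.of_card (n := 1) (by rw [Nat.card_zpowers, hx', pow_one]) :
      IsPGroup p (zpowers (x : G))).exists_le_sylow
    have hxP : (x : G) ∈ (P : Subgroup G) := hP (mem_zpowers _)
    have hne : N ⊓ (P : Subgroup G) ≠ ⊥ := fun e => hp.one_lt.ne (by
      rw [← hx', show (x : G) = 1 from mem_bot.1 (e ▸ ⟨x.2, hxP⟩), orderOf_one])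
    have hn : (P : Subgroup G) ≤ normalizer ((N ⊓ P : Subgroup G) : Set G) :=
      Coprime.le_normalizer_inf le_normalizer_of_normal le_normalizer
    obtain ⟨z, hz, hzo, hzc⟩ := exists_central hp P.2 inf_le_right hn hne
    obtain ⟨y, hy, hyN⟩ := SetLike.not_le_iff_exists.1 fun hle : (P : Subgroup G) ≤ N =>
      P.not_dvd_index (hpi.trans (index_dvd_of_le hle))
    have := hfree y hyN z hz.1 (hzc y hy)
    rw [this, orderOf_one] at hzo
    exact hp.one_lt.ne hzo
  obtain ⟨H, hH⟩ := exists_right_complement'_of_coprime hcop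
  have hdisj : N ⊓ H = ⊥ := hH.disjoint.eq_bot
  refine ⟨H, fun e => h2 ?_, fun e => h1 ?_, fun g hg => ?_⟩
  · have := hH.sup_eq_top
    rwa [e, sup_bot_eq] at this
  · rwa [e, inf_top_eq] at hdisj
  obtain ⟨⟨n, h⟩, hnh⟩ := hH.2 g
  simp only at hnh
  rw [eq_bot_iff]
  intro x hx
  obtain ⟨hxH, hxg⟩ := hx
  replace hxg : x ∈ MulAut.conj g • H := hxg
  rw [Subgroup.mem_pointwise_smul_iff_inv_smul_mem, ← map_inv, MulAut.smul_def, MulAut.conj_apply,
    inv_inv] at hxg
  set y := (h : G) * (g⁻¹ * x * g) * (h : G)⁻¹ with hy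
  have hyH : y ∈ H := mul_mem (mul_mem h.2 hxg) (H.inv_mem h.2)
  have hx_eq : x = (n : G) * y * (n : G)⁻¹ := by rw [hy, ← hnh]; group
  have hcomm : Commute y (n : G) := by
    have h3 : x * y⁻¹ ∈ N ⊓ H := by
      refine ⟨?_, H.mul_mem hxH (H.inv_mem hyH)⟩
      rw [hx_eq, show (n : G) * y * (n : G)⁻¹ * y⁻¹ = (n : G) * (y * (n : G)⁻¹ * y⁻¹) by group]
      exact N.mul_mem n.2 (Subgroup.Normal.conj_mem inferInstance _ (N.inv_mem n.2) y)
    rw [hdisj, mem_bot, mul_inv_eq_one] at h3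
    exact (mul_inv_eq_iff_eq_mul.1 (hx_eq.symm.trans h3)).symm
  by_contra hx1
  have hy1 : y ≠ 1 := fun e => hx1 (mem_bot.2 (by rw [hx_eq, e]; simp))
  have hyN : y ∉ N := fun e => hy1 (mem_bot.1 (hdisj ▸ ⟨e, hyH⟩))
  have hn1 : (n : G) = 1 := hfree y hyN n n.2 hcomm
  exact hg (by rw [← hnh, hn1, one_mul]; exact h.2)

/-- Each element of order `r` has an `r`-group as centraliser. -/
def Mix (r : ℕ) (G : Type u) [Group G] : Prop :=
  ∀ x : G, orderOf x = r → IsPGroup r (centralizer ({x} : Set G))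

section
variable [Finite G] {r : ℕ} (hr : r.Prime) (M : Mix r G)
include hr M

theorem Mix.eq_one {x y : G} (hx : orderOf x = r) (hc : Commute x y) (hy : ¬ r ∣ orderOf y) :
    y = 1 := by
  have := Fact.mk hr
  obtain ⟨k, hk⟩ := IsPGroup.iff_orderOf.1 (M x hx) ⟨y, mem_centralizer_singleton_iff.2 hc.eq.symm⟩
  rw [Subgroup.orderOf_mk] at hk
  rcases k with _ | k
  · exact orderOf_eq_one_iff.1 (by rw [hk, pow_zero])
  · exact absurd (hk ▸ dvd_pow_self r k.succ_ne_zero) hy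

theorem Mix.eq_one' {x y : G} {q : ℕ} (hq : q.Prime) (hne : q ≠ r) (hx : orderOf x = r)
    (hy : orderOf y = q) (hc : Commute x y) : False := by
  have := M.eq_one hr hx hc (by rw [hy, Nat.prime_dvd_prime_iff_eq hr hq]; exact Ne.symm hne)
  rw [this, orderOf_one] at hy
  exact hq.one_lt.ne hy

/-- The hypothesis passes to quotients. -/
theorem Mix.quotient (N : Subgroup G) [N.Normal] : Mix r (G ⧸ N) := by
  have := Fact.mk hr
  intro x hx u
  obtain ⟨e, m, hm, ho⟩ := Nat.exists_eq_pow_mul_and_not_dvd (orderOf_pos (u : G ⧸ N)).ne' r hr.ne_one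
  refine ⟨e, Subtype.ext ?_⟩
  by_contra hne
  have hm1 : m ≠ 1 := fun e1 => hne (by
    show (u : G ⧸ N) ^ r ^ e = 1
    rw [← mul_one (r ^ e), ← e1, ← ho, pow_orderOf_eq_one])
  obtain ⟨q, hq, hqm⟩ := Nat.exists_prime_and_dvd hm1
  have hqr : q ≠ r := fun e1 => hm (e1 ▸ hqm)
  set v := (u : G ⧸ N) ^ (orderOf (u : G ⧸ N) / q)
  have hv : orderOf v = q := exists_pow_order (ho ▸ hqm.mul_left _)
  have hc : Commute x v := (show Commute x (u : G ⧸ N) from
    (mem_centralizer_singleton_iff.1 u.2).symm).pow_right _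
  have hxv : orderOf (x * v) = r * q := by
    rw [hc.orderOf_mul_eq_mul_orderOf_of_coprime (by
      rw [hx, hv]; exact (Nat.coprime_primes hr hq).2 (Ne.symm hqr)), hx, hv]
  obtain ⟨w, hw⟩ := QuotientGroup.mk'_surjective N (x * v)
  have hd : r * q ∣ orderOf w := by rw [← hxv, ← hw]; exact orderOf_map_dvd _ w
  exact M.eq_one' hr hq hqr (exists_pow_order ((Dvd.intro q rfl).trans hd))
    (exists_pow_order ((Dvd.intro_left r rfl).trans hd))
    ((Commute.refl w).pow_pow _ _)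

theorem Mix.centralizer_le {A : Subgroup G} [A.Normal] (hA : IsPGroup r A) (hne : A ≠ ⊥) :
    centralizer (A : Set G) ≤ Cfsg.pCore r G := by
  obtain ⟨a, ha, hao, -⟩ := exists_central hr hA le_rfl le_normalizer hne
  refine Core.le_pCore ((M a hao).to_le fun c hc => mem_centralizer_singleton_iff.2 ?_)
  exact (mem_centralizer_iff.1 hc a ha).symm

theorem Mix.frobenius {P : Subgroup G} [P.Normal] (hP : IsPGroup r P) (h1 : P ≠ ⊥) (h2 : P ≠ ⊤)
    (hi : ¬ r ∣ P.index) : ∃ H : Subgroup G, Cfsg.IsFrobeniusComplement H := by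
  have := Fact.mk hr
  refine exists_frobenius_complement P h1 h2 fun g hg k hk hc => by_contra fun hk1 => hg ?_
  obtain ⟨p, hp, hpd, hko⟩ := exists_prime_pow hk1
  obtain rfl : p = r := by
    obtain ⟨j, hj⟩ := IsPGroup.iff_orderOf.1 hP ⟨k, hk⟩
    rw [Subgroup.orderOf_mk] at hj
    exact (Nat.prime_dvd_prime_iff_eq hp hr).1 (hp.dvd_of_dvd_pow (hj ▸ hpd))
  obtain ⟨e, m, hm, ho⟩ := Nat.exists_eq_pow_mul_and_not_dvd (orderOf_pos g).ne' p hp.ne_one
  have hm' : orderOf (g ^ p ^ e) = m := by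
    rw [orderOf_pow_of_dvd (pow_ne_zero _ hp.ne_zero) ⟨m, ho⟩, ho,
      Nat.mul_div_cancel_left _ (pow_pos hp.pos _)]
  have hg1 : g ^ p ^ e = 1 := M.eq_one hr hko ((hc.pow_pow _ _).symm) (hm' ▸ hm)
  have h3 : orderOf (g : G ⧸ P) ∣ p ^ e := orderOf_dvd_of_pow_eq_one (by
    rw [← QuotientGroup.mk_pow, hg1]; rfl)
  have h4 : orderOf (g : G ⧸ P) ∣ P.index := orderOf_dvd_natCard _
  rw [← QuotientGroup.eq_one_iff, ← orderOf_eq_one_iff]
  exact Nat.eq_one_of_dvd_coprimes ((hp.coprime_iff_not_dvd.2 hi).pow_left e) h3 h4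

end

/-- Conjugation of a quotient on an abelian normal subgroup centralised by the kernel. -/
noncomputable def act (A L : Subgroup G) [A.Normal] [L.Normal] (hAL : L ≤ centralizer (A : Set G)) :
    G ⧸ L →* MulAut A :=
  QuotientGroup.lift L MulAut.conjNormal fun l hl => MulEquiv.ext fun a => Subtype.ext (by
    rw [MulAut.conjNormal_apply, MulAut.one_apply, ← mem_centralizer_iff.1 (hAL hl) a a.2,
      mul_inv_cancel_right])

theorem act_mk {A L : Subgroup G} [A.Normal] [L.Normal] (hAL : L ≤ centralizer (A : Set G)) (g : G)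
    (a : A) : ((act A L hAL (g : G ⧸ L) a : A) : G) = g * a * g⁻¹ := MulAut.conjNormal_apply g a

/-- A subgroup without fixed points on `A` normalised freely by an element with vanishing norm on
`A` is impossible. -/
theorem norm_contra [Finite G] {A L : Subgroup G} [A.Normal] [L.Normal]
    (hAc : IsMulCommutative A) (hAL : L ≤ centralizer (A : Set G)) {l : ℕ}
    (hA : ∀ a ∈ A, a ^ l = 1) (hne : A ≠ ⊥) (B : Subgroup (G ⧸ L))
    (hcop : Nat.Coprime l (Nat.card B)) (y : G) {r : ℕ} (hr : 0 < r) (hyr : y ^ r = 1)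
    (hyB : ∀ b ∈ B, (y : G ⧸ L) * b * (y : G ⧸ L)⁻¹ ∈ B)
    (hfree : ∀ i, 0 < i → i < r → ∀ b ∈ B, Commute ((y : G ⧸ L) ^ i) b → b = 1)
    (hfix : ∀ a ∈ A, (∀ g : G, (g : G ⧸ L) ∈ B → Commute g a) → a = 1)
    (hN : ∀ a ∈ A, (a * y) ^ r = 1) : False := by
  classical
  open scoped IsMulCommutative in
  obtain ⟨v, hv, hv1⟩ := A.bot_or_exists_ne_one.resolve_left hne
  have key : (⟨v, hv⟩ : A) ^ Nat.card B = 1 := by
    refine Fusion.pow_card_eq_one_of_norm (act A L hAL) B (y : G ⧸ L) hr hyB hfree ?_ ?_ _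
    · intro a ha
      refine Subtype.ext (hfix a a.2 fun g hg => ?_)
      have h1 := congrArg Subtype.val (ha _ hg)
      rw [act_mk] at h1
      exact mul_inv_eq_iff_eq_mul.1 h1
    · intro a
      have hn : ∀ i : ℕ, ((a : G) * y) ^ i =
          ((∏ j ∈ Finset.range i, act A L hAL ((y : G ⧸ L) ^ j) a : A) : G) * y ^ i := by
        intro i
        induction i with
        | zero => simp
        | succ i ih =>
          rw [pow_succ, ih, Finset.prod_range_succ, Subgroup.coe_mul, ← QuotientGroup.mk_pow,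
            act_mk, pow_succ]
          group
      have h1 := hn r
      rw [hN a a.2, hyr, mul_one] at h1
      exact Subtype.ext h1.symm
  have h2 : v ^ Nat.card B = 1 := by simpa using congrArg Subtype.val key
  exact hv1 (orderOf_eq_one_iff.1 (Nat.eq_one_of_dvd_coprimes hcop
    (orderOf_dvd_of_pow_eq_one (hA v hv)) (orderOf_dvd_of_pow_eq_one h2)))

/-- `Ω₁(Z(P))`. -/
def omegaCenter (r : ℕ) (P : Subgroup G) : Subgroup G where
  carrier := {a | a ∈ P ∧ a ^ r = 1 ∧ ∀ y ∈ P, Commute y a}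
  one_mem' := ⟨one_mem _, one_pow _, fun y _ => Commute.one_right y⟩
  mul_mem' := fun {a b} ha hb => ⟨mul_mem ha.1 hb.1,
    by rw [(hb.2.2 a ha.1).mul_pow, ha.2.1, hb.2.1, one_mul],
    fun y hy => (ha.2.2 y hy).mul_right (hb.2.2 y hy)⟩
  inv_mem' := fun {a} ha => ⟨inv_mem ha.1, by rw [inv_pow, ha.2.1, inv_one],
    fun y hy => (ha.2.2 y hy).inv_right⟩

theorem omegaCenter_comm (r : ℕ) (P : Subgroup G) : IsMulCommutative (omegaCenter r P) :=
  ⟨⟨fun a b => Subtype.ext ((b.2.2.2 a a.2.1).eq)⟩⟩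

instance omegaCenter_normal (r : ℕ) (P : Subgroup G) [hP : P.Normal] :
    (omegaCenter r P).Normal := by
  refine ⟨fun a ha g => ⟨hP.conj_mem a ha.1 g, by rw [conj_pow, ha.2.1]; group, fun y hy => ?_⟩⟩
  have h1 : g⁻¹ * y * g ∈ P := by simpa using hP.conj_mem y hy g⁻¹
  have h2 := (Commute.conj_iff g).2 (ha.2.2 _ h1)
  rwa [show g * (g⁻¹ * y * g) * g⁻¹ = y by group] at h2

theorem exists_omegaCenter [Finite G] {r : ℕ} (hr : r.Prime) {P A : Subgroup G} (hP : IsPGroup r P)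
    (hA : A ≤ P) (hn : P ≤ normalizer (A : Set G)) (hne : A ≠ ⊥) :
    ∃ a ∈ A, a ∈ omegaCenter r P ∧ a ≠ 1 := by
  obtain ⟨z, hz, hzo, hzc⟩ := exists_central hr hP hA hn hne
  exact ⟨z, hz, ⟨hA hz, hzo ▸ pow_orderOf_eq_one z, hzc⟩, fun e => by
    rw [e, orderOf_one] at hzo; exact hr.one_lt.ne hzo⟩

/-- For odd `r`, if the elements outside the `r`-core of `r`-power order have order `r`, then
`r` does not divide its index. -/
theorem Mix.not_dvd_index_of_odd [Finite G] {r : ℕ} (hr : r.Prime) (hr2 : r ≠ 2) (M : Mix r G)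
    (hP1 : Cfsg.pCore r G ≠ ⊥)
    (hexp : ∀ x : G, x ∉ Cfsg.pCore r G → (∃ k : ℕ, x ^ r ^ k = 1) → x ^ r = 1) :
    ¬ r ∣ (Cfsg.pCore r G).index := by
  have := Fact.mk hr
  intro hd
  set P := Cfsg.pCore r G with hPdef
  have hP : IsPGroup r P := Core.pCore_isPGroup
  set A := omegaCenter r P
  obtain ⟨a₀, -, ha₀, ha₀1⟩ := exists_omegaCenter hr hP le_rfl le_normalizer hP1
  have hAne : A ≠ ⊥ := fun e => ha₀1 (mem_bot.1 (e ▸ ha₀))
  have hAP : A ≤ P := fun a ha => ha.1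
  have hPA : P ≤ centralizer (A : Set G) := fun y hy =>
    mem_centralizer_iff.2 fun a ha => (ha.2.2 y hy).eq.symm
  have hAo : ∀ a ∈ A, a ≠ 1 → orderOf a = r := fun a ha ha1 => orderOf_eq_prime ha.2.1 ha1
  obtain ⟨yb, hyb⟩ := exists_prime_orderOf_dvd_card' (G := G ⧸ P) r hd
  obtain ⟨y₀, rfl⟩ := QuotientGroup.mk_surjective yb
  have hrel : ∀ g : G, orderOf (g : G ⧸ P) = r → ∃ k : ℕ, g ^ r ^ k = 1 := by
    intro g hg
    obtain ⟨k, hk⟩ := hP ⟨g ^ r, (QuotientGroup.eq_one_iff _).1 (by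
      rw [QuotientGroup.mk_pow]; exact orderOf_dvd_iff_pow_eq_one.1 hg.dvd)⟩
    refine ⟨k + 1, ?_⟩
    rw [pow_succ', pow_mul]
    exact congrArg Subtype.val hk
  have hout : ∀ g : G, orderOf (g : G ⧸ P) = r → g ∉ P := fun g hg hm => by
    rw [(QuotientGroup.eq_one_iff g).2 hm, orderOf_one] at hg
    exact hr.one_lt.ne hg
  by_cases heven : 2 ∣ Nat.card G
  · have : Fact (Nat.Prime 2) := ⟨Nat.prime_two⟩
    obtain ⟨i, hi⟩ := exists_prime_orderOf_dvd_card' (G := G) 2 heven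
    have hii : i * i = 1 := by rw [← sq, ← hi, pow_orderOf_eq_one]
    have hiinv : i⁻¹ = i := inv_eq_of_mul_eq_one_right hii
    have hinv : ∀ a ∈ A, i * a * i = a⁻¹ := by
      intro a ha
      have h1 : i * a * i ∈ A := by
        simpa [hiinv] using (omegaCenter_normal r P).conj_mem a ha i
      refine (eq_inv_of_mul_eq_one_right ?_)
      by_contra hne
      refine M.eq_one' hr Nat.prime_two (Ne.symm hr2) (hAo _ (mul_mem ha h1) hne) hi ?_
      show a * (i * a * i) * i = i * (a * (i * a * i))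
      have hc : (i * a * i) * a = a * (i * a * i) := (ha.2.2 _ (hAP h1)).eq
      calc a * (i * a * i) * i = a * i * a * (i * i) := by group
        _ = a * i * a := by rw [hii, mul_one]
        _ = (i * i) * (a * i * a) := by rw [hii, one_mul]
        _ = i * ((i * a * i) * a) := by group
        _ = i * (a * (i * a * i)) := by rw [hc]
    set p := y₀ * i * y₀⁻¹ * i with hp
    have hpC : p ∈ centralizer (A : Set G) := by
      refine mem_centralizer_iff.2 fun a ha => ?_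
      have h1 : y₀⁻¹ * a * y₀ ∈ A := by
        simpa using (omegaCenter_normal r P).conj_mem a ha y₀⁻¹
      have h2 := hinv _ h1
      have h3 := hinv a ha
      have e : p * a * p⁻¹ = a := by
        calc p * a * p⁻¹ = y₀ * i * y₀⁻¹ * (i * a * i⁻¹) * (y₀ * i⁻¹ * y₀⁻¹) := by rw [hp]; group
          _ = y₀ * i * y₀⁻¹ * a⁻¹ * (y₀ * i * y₀⁻¹) := by rw [hiinv, h3]
          _ = y₀ * (i * (y₀⁻¹ * a * y₀) * i)⁻¹ * y₀⁻¹ := by
            rw [mul_inv_rev, mul_inv_rev, hiinv]; group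
          _ = a := by rw [h2]; group
      exact (mul_inv_eq_iff_eq_mul.1 e).symm
    have hpP : p ∈ P := M.centralizer_le hr (hP.to_le hAP) hAne hpC
    obtain ⟨k, hk⟩ := IsPGroup.iff_orderOf.1 hP ⟨p, hpP⟩
    rw [Subgroup.orderOf_mk] at hk
    obtain ⟨j, hj⟩ : Odd (orderOf p) := hk ▸ (hr.odd_of_ne_two hr2).pow
    set q := p ^ (j + 1) with hq
    have hqq : q * q = p := by
      rw [hq, ← pow_add, show j + 1 + (j + 1) = orderOf p + 1 by omega, pow_succ,
        pow_orderOf_eq_one, one_mul]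
    have hipi : i * p * i = p⁻¹ := by
      rw [hp, mul_inv_rev, mul_inv_rev, mul_inv_rev, hiinv, inv_inv]
      calc i * (y₀ * i * y₀⁻¹ * i) * i = i * (y₀ * i * y₀⁻¹) * (i * i) := by group
        _ = i * (y₀ * (i * y₀⁻¹)) := by rw [hii, mul_one, mul_assoc y₀]
    have hiqi : i * q * i = q⁻¹ := by
      have := conj_pow (a := i) (b := p) (i := j + 1)
      rw [hiinv] at this
      rw [hq, ← this, hipi, inv_pow]
    have hqi : q * i * q⁻¹ = y₀ * i * y₀⁻¹ := by
      rw [← hiqi]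
      calc q * i * (i * q * i) = q * (i * i) * q * i := by group
        _ = p * i := by rw [hii, mul_one, hqq]
        _ = y₀ * i * y₀⁻¹ := by rw [hp, mul_assoc, hii, mul_one]
    set n := q⁻¹ * y₀ with hn
    have hnc : Commute n i := by
      refine mul_inv_eq_iff_eq_mul.1 (?_ : n * i * n⁻¹ = i)
      calc n * i * n⁻¹ = q⁻¹ * (y₀ * i * y₀⁻¹) * q := by rw [hn]; group
        _ = i := by rw [← hqi]; group
    have hnb : (n : G ⧸ P) = (y₀ : G ⧸ P) := by
      rw [hn, QuotientGroup.mk_mul, QuotientGroup.mk_inv,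
        (QuotientGroup.eq_one_iff q).2 (pow_mem hpP _), inv_one, one_mul]
    have hno : r ∣ orderOf n := by
      rw [← hyb, ← hnb]
      exact orderOf_map_dvd (QuotientGroup.mk' P) n
    exact M.eq_one' hr Nat.prime_two (Ne.symm hr2) (exists_pow_order hno) hi (hnc.pow_left _)
  · haveI hsol : Group.IsSolvable G :=
      S0205.result (Nat.not_even_iff_odd.1 fun e => heven (even_iff_two_dvd.1 e))
    haveI : Nontrivial (G ⧸ P) := by
      refine ⟨⟨(y₀ : G ⧸ P), 1, fun e => ?_⟩⟩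
      rw [e, orderOf_one] at hyb
      exact hr.one_lt.ne hyb
    obtain ⟨q, hq, Q, hQn, hQ, hQne⟩ := Coprime.exists_normal_isPGroup (G := G ⧸ P)
    have hqr : q ≠ r := fun e => hQne (le_bot_iff.1 (by
      rw [← Core.pCore_quotient_eq_bot (G := G) (p := r)]
      exact Core.le_pCore (e ▸ hQ)))
    have := Fact.mk hq
    have hQo : ∀ b ∈ Q, ¬ r ∣ orderOf b := fun b hb hd => by
      obtain ⟨k, hk⟩ := IsPGroup.iff_orderOf.1 hQ ⟨b, hb⟩
      rw [Subgroup.orderOf_mk] at hk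
      exact hqr ((Nat.prime_dvd_prime_iff_eq hr hq).1 (hr.dvd_of_dvd_pow (hk ▸ hd))).symm
    refine norm_contra (omegaCenter_comm r P) hPA (fun a ha => ha.2.1) hAne Q ?_ y₀ hr.pos
      (hexp y₀ (hout y₀ hyb) (hrel y₀ hyb)) (fun b hb => hQn.conj_mem b hb _)
      (fun i hi hir b hb hc => (M.quotient hr P).eq_one hr ?_ hc (hQo b hb)) ?_ fun a ha => ?_
    · obtain ⟨k, hk⟩ := IsPGroup.iff_card.1 hQ
      rw [hk]
      exact ((Nat.coprime_primes hr hq).2 (Ne.symm hqr)).pow_right k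
    · rw [orderOf_pow' _ hi.ne', hyb, Nat.Coprime.gcd_eq_one (hr.coprime_iff_not_dvd.2
        (Nat.not_dvd_of_pos_of_lt hi hir)), Nat.div_one]
    · intro a ha hall
      by_contra ha1
      obtain ⟨b, hb, hb1⟩ := Q.bot_or_exists_ne_one.resolve_left hQne
      obtain ⟨g, rfl⟩ := QuotientGroup.mk_surjective b
      obtain ⟨p, hp, hpd⟩ := Nat.exists_prime_and_dvd (mt orderOf_eq_one_iff.1 hb1)
      have hpr : p ≠ r := fun e => hQo _ hb (e ▸ hpd)
      exact M.eq_one' hr hp hpr (hAo a ha ha1)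
        (exists_pow_order (hpd.trans (orderOf_map_dvd (QuotientGroup.mk' P) g)))
        ((hall g hb).symm.pow_right _)
    · have hay : ((a * y₀ : G) : G ⧸ P) = (y₀ : G ⧸ P) := by
        rw [QuotientGroup.mk_mul, (QuotientGroup.eq_one_iff a).2 ha.1, one_mul]
      exact hexp _ (hout _ (hay ▸ hyb)) (hrel _ (hay ▸ hyb))

/-- For `r = 2`: if the centraliser of each `2`-element of order at least 4 outside the core has
index at most 2 in `A`, then `|A| ≤ 4`. -/
theorem Mix.card_le_four [Finite G] (M : Mix 2 G) {A : Subgroup G} [A.Normal]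
    (hA : A ≤ Cfsg.pCore 2 G) (hAne : A ≠ ⊥) (hd : 2 ∣ (Cfsg.pCore 2 G).index)
    (hA2 : ∀ a ∈ A, a * a = 1)
    (hT : ∀ y : G, y * y ≠ 1 → (∃ k : ℕ, y ^ 2 ^ k = 1) → y ∉ Cfsg.pCore 2 G →
      Nat.card A ≤ 2 * Nat.card (A ⊓ centralizer ({y} : Set G) : Subgroup G)) :
    Nat.card A ≤ 4 := by
  have hP : IsPGroup 2 (Cfsg.pCore 2 G) := Core.pCore_isPGroup
  set P := Cfsg.pCore 2 G
  have : Fact (Nat.Prime 2) := ⟨Nat.prime_two⟩
  obtain ⟨yb, hyb⟩ := exists_prime_orderOf_dvd_card' (G := G ⧸ P) 2 hd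
  obtain ⟨y₀, rfl⟩ := QuotientGroup.mk_surjective yb
  have hrel : ∀ g : G, orderOf (g : G ⧸ P) = 2 → ∃ k : ℕ, g ^ 2 ^ k = 1 := by
    intro g hg
    obtain ⟨k, hk⟩ := hP ⟨g ^ 2, (QuotientGroup.eq_one_iff _).1 (by
      rw [QuotientGroup.mk_pow]; exact orderOf_dvd_iff_pow_eq_one.1 hg.dvd)⟩
    refine ⟨k + 1, ?_⟩
    rw [pow_succ', pow_mul]
    exact congrArg Subtype.val hk
  have hout : ∀ g : G, orderOf (g : G ⧸ P) = 2 → g ∉ P := fun g hg hm => by
    rw [(QuotientGroup.eq_one_iff g).2 hm, orderOf_one] at hg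
    omega
  obtain ⟨y, hy, hyy⟩ : ∃ y : G, orderOf (y : G ⧸ P) = 2 ∧ y * y ≠ 1 := by
    by_contra! hall
    refine hout y₀ hyb (M.centralizer_le Nat.prime_two (hP.to_le hA) hAne
      (mem_centralizer_iff.2 fun a ha => ?_))
    have h1 := hall (a * y₀) (by
      rw [QuotientGroup.mk_mul, (QuotientGroup.eq_one_iff a).2 (hA ha), one_mul, hyb])
    have h2 := hall y₀ hyb
    calc a * y₀ = (a * y₀)⁻¹ := (inv_eq_of_mul_eq_one_right h1).symm
      _ = y₀ * a := by
        rw [mul_inv_rev, inv_eq_of_mul_eq_one_right h2, inv_eq_of_mul_eq_one_right (hA2 a ha)]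
  obtain ⟨gb, hb, hb1, hbo, -, hbz⟩ := Invol.exists_inverted_odd hy fun N hN hN2 hm => by
    have hbot := Core.pCore_quotient_eq_bot (G := G) (p := 2)
    have h1 : (y : G ⧸ P) ∈ (⊥ : Subgroup (G ⧸ P)) := hbot ▸ Core.le_pCore (hN := hN) hN2 hm
    rw [mem_bot.1 h1, orderOf_one] at hy
    omega
  obtain ⟨g, rfl⟩ := QuotientGroup.mk_surjective gb
  obtain ⟨j, rfl⟩ := mem_zpowers_iff.1 hbz
  set z := g * y * g⁻¹ with hz
  have hzq : ((y * z : G) : G ⧸ P) = (y : G ⧸ P) * ((g : G ⧸ P) * y * (g : G ⧸ P)⁻¹) := by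
    rw [hz]; simp only [QuotientGroup.mk_mul, QuotientGroup.mk_inv]
  have hzy : orderOf (z : G ⧸ P) = 2 := by
    rw [hz, QuotientGroup.mk_mul, QuotientGroup.mk_mul, QuotientGroup.mk_inv, ← MulAut.conj_apply,
      MulEquiv.orderOf_eq, hy]
  have hzz : z * z ≠ 1 := fun e => hyy (by
    calc y * y = g⁻¹ * (z * z) * g := by rw [hz]; group
      _ = 1 := by rw [e]; group)
  have c1 := hT y hyy (hrel y hy) (hout y hy)
  have c2 := hT z hzz (hrel z hzy) (hout z hzy)
  set C₁ := A ⊓ centralizer ({y} : Set G)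
  set C₂ := A ⊓ centralizer ({z} : Set G)
  have hdisj : C₁ ⊓ C₂ = ⊥ := by
    rw [eq_bot_iff]
    rintro a ⟨⟨haA, hay⟩, -, haz⟩
    by_contra ha1
    have hao : orderOf a = 2 := orderOf_eq_prime (by rw [sq, hA2 a haA]) fun e => ha1 (mem_bot.2 e)
    set w := (y * z) ^ j
    have hw : (w : G ⧸ P) = ((y : G ⧸ P) * ((g : G ⧸ P) * y * (g : G ⧸ P)⁻¹)) ^ j := by
      rw [QuotientGroup.mk_zpow, hzq]
    have hc : Commute a w := ((show Commute a y from mem_centralizer_singleton_iff.1 hay).mul_right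
      (show Commute a z from mem_centralizer_singleton_iff.1 haz)).zpow_right j
    obtain ⟨q, hq, hqd⟩ := Nat.exists_prime_and_dvd (mt orderOf_eq_one_iff.1 hb1)
    refine M.eq_one' Nat.prime_two hq ?_ hao
      (exists_pow_order (g := w) (hqd.trans (hw ▸ orderOf_map_dvd (QuotientGroup.mk' P) w)))
      (hc.pow_right _)
    rintro rfl
    exact (Nat.not_even_iff_odd.2 hbo) (even_iff_two_dvd.2 hqd)
  have hn : C₁ ≤ normalizer (C₂ : Set G) := by
    intro c hc
    refine mem_normalizer_fintype fun x hx => ?_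
    rw [SetLike.mem_coe] at hx ⊢
    rw [show c * x = x * c from by
      calc c * x = (c * x)⁻¹ := (inv_eq_of_mul_eq_one_right (hA2 _ (mul_mem hc.1 hx.1))).symm
        _ = x * c := by rw [mul_inv_rev, inv_eq_of_mul_eq_one_right (hA2 _ hc.1),
            inv_eq_of_mul_eq_one_right (hA2 _ hx.1)], mul_inv_cancel_right]
    exact hx
  have h1 := S0606.card_sup_mul_card_inf_of_le_normalizer hn
  rw [hdisj, card_bot, mul_one] at h1
  have h2 : Nat.card (C₁ ⊔ C₂ : Subgroup G) ≤ Nat.card A :=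
    Nat.le_of_dvd Nat.card_pos (card_dvd_of_le (sup_le inf_le_left inf_le_left))
  have h3 := Nat.mul_le_mul c1 c2
  rw [h1] at h2
  nlinarith [Nat.card_pos (α := A)]

end Cfsg.Agent.Partition
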