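import Cfsg.Agent.Fusion.Splitting
import Cfsg.Agent.SuzukiTI.Setting

/-!
# Normal partitions: elementary facts
-/

set_option autoImplicit false

open Subgroup

namespace Cfsg.Agent.Partition

universe u

variable {G : Type u} [Group G]

/-- Two subgroups with trivial intersection: an element of one and one of the other, each
normalising the other subgroup, commute. -/
theorem commute_of_normalize {A B : Subgroup G} (h : A ⊓ B = ⊥) {a b : G} (ha : a ∈ A) (hb : b ∈ B)
    (haB : a ∈ normalizer (B : Set G)) (hbA : b ∈ normalizer (A : Set G)) : Commute a b := by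
  have h1 : a * b * a⁻¹ * b⁻¹ ∈ A ⊓ B := by
    refine ⟨?_, B.mul_mem ((mem_normalizer_iff.1 haB b).1 hb) (B.inv_mem hb)⟩
    rw [show a * b * a⁻¹ * b⁻¹ = a * (b * a⁻¹ * b⁻¹) by group]
    exact A.mul_mem ha ((mem_normalizer_iff.1 hbA _).1 (A.inv_mem ha))
  rw [h, mem_bot, mul_inv_eq_one, mul_inv_eq_iff_eq_mul] at h1
  exact h1

/-- A partition invariant under conjugation, as the function sending an element to its
component. -/
structure IsNP (K : G → Subgroup G) : Prop where
  mem : ∀ g, g ∈ K g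
  one : K 1 = ⊥
  eq : ∀ {x y : G}, x ≠ 1 → x ∈ K y → K x = K y
  conj : ∀ {c x y : G}, y ∈ K (c * x * c⁻¹) ↔ c⁻¹ * y * c ∈ K x
  ne_top : ∀ x, K x ≠ ⊤

variable {K : G → Subgroup G} (h : IsNP K)
include h

theorem IsNP.ne_one_of {x y : G} (hx : x ≠ 1) (hxy : x ∈ K y) : y ≠ 1 := fun e => by
  rw [e, h.one, mem_bot] at hxy
  exact hx hxy

theorem IsNP.eq_of_mem {x y z : G} (hz : z ≠ 1) (h1 : z ∈ K x) (h2 : z ∈ K y) : K x = K y :=
  (h.eq hz h1).symm.trans (h.eq hz h2)

theorem IsNP.inf_eq_bot {x y : G} (hne : K x ≠ K y) : K x ⊓ K y = ⊥ :=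
  eq_bot_iff.2 fun _ hz => mem_bot.2 (by_contra fun h1 => hne (h.eq_of_mem h1 hz.1 hz.2))

theorem IsNP.pow_eq {x : G} {n : ℕ} (hn : x ^ n ≠ 1) : K (x ^ n) = K x :=
  h.eq hn (pow_mem (h.mem x) n)

theorem IsNP.conj_mem_iff {c x y : G} : c * y * c⁻¹ ∈ K (c * x * c⁻¹) ↔ y ∈ K x := by
  rw [h.conj, show c⁻¹ * (c * y * c⁻¹) * c = y by group]

theorem IsNP.mem_normalizer_of_conj {c x : G} (hx : x ≠ 1) (hc : c * x * c⁻¹ ∈ K x) :
    c ∈ normalizer (K x : Set G) := by
  have e : K (c * x * c⁻¹) = K x := h.eq (fun e => hx (conj_eq_one_iff.1 e)) hc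
  exact mem_normalizer_iff.2 fun y => by
    conv_rhs => rw [← e, h.conj_mem_iff]

/-- An element conjugating one element of a component into it normalises it. -/
theorem IsNP.mem_normalizer {c x y : G} (hy : y ≠ 1) (hyx : y ∈ K x) (hc : c * y * c⁻¹ ∈ K x) :
    c ∈ normalizer (K x : Set G) := by
  rw [← h.eq hy hyx] at hc ⊢
  exact h.mem_normalizer_of_conj hy hc

theorem IsNP.mem_normalizer_of_commute {c x y : G} (hy : y ≠ 1) (hyx : y ∈ K x)
    (hc : Commute c y) : c ∈ normalizer (K x : Set G) :=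
  h.mem_normalizer hy hyx (by rwa [hc.eq, mul_inv_cancel_right])

theorem IsNP.conj_component {c x y : G} :
    y ∈ (K x).map (MulAut.conj c).toMonoidHom ↔ y ∈ K (c * x * c⁻¹) := by
  rw [h.conj, mem_map]
  constructor
  · rintro ⟨z, hz, rfl⟩
    simpa [mul_assoc] using hz
  · exact fun hy => ⟨_, hy, by simp [mul_assoc]⟩

/-- An element outside a component has the order of its image. -/
theorem IsNP.pow_eq_one_of_mem {g x : G} (hg : g ∉ K x) {n : ℕ} (hn : g ^ n ∈ K x) : g ^ n = 1 :=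
  by_contra fun h1 => hg (by
    have e := (h.eq h1 hn).symm.trans (h.pow_eq h1)
    exact e ▸ h.mem g)

theorem IsNP.sq_eq_one {g x : G} (hg : g ∉ K x) (hn : g * g ∈ K x) : g * g = 1 := by
  rw [← sq] at hn ⊢
  exact h.pow_eq_one_of_mem hg hn

/-- Commuting elements of different components have the same prime order. -/
theorem IsNP.order_eq [Finite G] {x y : G} (hc : Commute x y) (hx : x ≠ 1) (hy : y ≠ 1)
    (hne : K x ≠ K y) : orderOf x = orderOf y ∧ (orderOf x).Prime := by
  have step : ∀ {a b : G}, Commute a b → a ≠ 1 → b ≠ 1 → K a ≠ K b → orderOf b ∣ orderOf a := by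
    intro a b hab ha hb hne'
    rw [orderOf_dvd_iff_pow_eq_one]
    by_contra hb2
    have h1 : (a * b) ^ orderOf a = b ^ orderOf a := by
      rw [hab.mul_pow, pow_orderOf_eq_one, one_mul]
    have h2 : K (a * b) = K b := by
      rw [← h.pow_eq (x := a * b) (h1.symm ▸ hb2), h1, h.pow_eq hb2]
    have h3 : a ∈ K b := by
      have := mul_mem (h2 ▸ h.mem (a * b)) (inv_mem (h.mem b))
      rwa [mul_inv_cancel_right] at this
    exact hne' (h.eq ha h3)
  have e := Nat.dvd_antisymm (step hc.symm hy hx (Ne.symm hne)) (step hc hx hy hne)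
  refine ⟨e, ?_⟩
  have h1 : orderOf x ≠ 1 := mt orderOf_eq_one_iff.1 hx
  obtain ⟨p, hp, d, hd⟩ := Nat.exists_prime_and_dvd h1
  by_contra hnp
  have hd1 : x ^ p ≠ 1 := by
    intro e1
    rcases (Nat.dvd_prime hp).1 (orderOf_dvd_of_pow_eq_one e1) with h2 | h2
    · exact h1 h2
    · exact hnp (h2 ▸ hp)
  have h2 := Nat.dvd_antisymm (step (hc.pow_left p) hd1 hy (h.pow_eq hd1 ▸ hne))
    (step (hc.symm.pow_right p) hy hd1 (h.pow_eq hd1 ▸ Ne.symm hne))
  rw [orderOf_pow_of_dvd hp.ne_zero ⟨d, hd⟩, hd, Nat.mul_div_cancel_left _ hp.pos] at h2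
  have hpos := orderOf_pos x
  rw [e, ← h2] at hd
  have h3 := orderOf_pos y
  have h4 := hp.two_le
  nlinarith

theorem IsNP.mem_of_commute [Finite G] {x y : G} (hc : Commute x y) (hx : x ≠ 1) (hy : y ≠ 1)
    (ho : orderOf x ≠ orderOf y) : y ∈ K x := by
  by_cases e : K x = K y
  · exact e ▸ h.mem y
  · exact absurd (h.order_eq hc hx hy e).1 ho

theorem IsNP.mem_of_commute_not_prime [Finite G] {x y : G} (hc : Commute x y) (hx : x ≠ 1)
    (ho : ¬ (orderOf x).Prime) : y ∈ K x := by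
  by_cases hy : y = 1
  · exact hy ▸ one_mem _
  by_cases e : K x = K y
  · exact e ▸ h.mem y
  · exact absurd (h.order_eq hc hx hy e).2 ho

/-- All elements outside a component of a coset have the order of the image. -/
theorem IsNP.coset_pow {g x z : G} (hg : g ∉ K x) (hn : g ∈ normalizer (K x : Set G))
    (hz : z ∈ K x) {n : ℕ} (hgn : g ^ n = 1) : (z * g) ^ n = 1 := by
  have hpow : ∀ i : ℕ, (z * g) ^ i * (g ^ i)⁻¹ ∈ K x := by
    intro i
    induction i with
    | zero => simp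
    | succ i ih =>
      have h1 : (z * g) ^ (i + 1) * (g ^ (i + 1))⁻¹ =
          ((z * g) ^ i * (g ^ i)⁻¹) * (g ^ i * z * (g ^ i)⁻¹) := by
        rw [pow_succ, pow_succ]; group
      rw [h1]
      exact mul_mem ih ((mem_normalizer_iff.1 (pow_mem hn i) z).1 hz)
  refine h.pow_eq_one_of_mem (fun hm => hg ?_) (x := x) (g := z * g) ?_
  · have := mul_mem (inv_mem hz) hm
    rwa [inv_mul_cancel_left] at this
  · have := hpow n
    rwa [hgn, inv_one, mul_one] at this

/-- A component which is not self-normalising is nilpotent. -/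
theorem IsNP.isNilpotent_component [Finite G] {x : G}
    (hN : normalizer (K x : Set G) ≠ K x) : Group.IsNilpotent (K x) := by
  obtain ⟨g, hg, hgX⟩ := SetLike.exists_of_lt (lt_of_le_of_ne le_normalizer (Ne.symm hN))
  have hg1 : orderOf g ≠ 1 := fun e => hgX (orderOf_eq_one_iff.1 e ▸ one_mem _)
  obtain ⟨q, hq, hqd⟩ := Nat.exists_prime_and_dvd hg1
  set c := g ^ (orderOf g / q) with hc
  have hco : orderOf c = q := orderOf_pow_orderOf_div (orderOf_pos g).ne' hqd
  have hc1 : c ≠ 1 := fun e => by rw [e, orderOf_one] at hco; exact hq.one_lt.ne hco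
  have hcX : c ∉ K x := fun hm => hgX (by
    have e := (h.eq hc1 hm).symm.trans (h.pow_eq hc1)
    exact e ▸ h.mem g)
  exact Fusion.isNilpotent_of_splitting hq (pow_mem hg _)
    fun l hl => h.coset_pow hcX (pow_mem hg _) hl (hco ▸ pow_orderOf_eq_one c)

omit h

/-- A `p`-element normalising a subgroup of order divisible by `p` fixes a non-trivial element. -/
theorem exists_fixed [Finite G] (B : Subgroup G) {g : G} (hg : g ∈ normalizer (B : Set G))
    {p n : ℕ} (hp : p.Prime) (hgo : g ^ p ^ n = 1) (hd : p ∣ Nat.card B) :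
    ∃ b ∈ B, b ≠ 1 ∧ Commute b g := by
  classical
  have := Fintype.ofFinite B
  have := Fact.mk hp
  let σ : MulAut B := normalizerMonoidHom B ⟨g, hg⟩
  have hσ : σ ^ p ^ n = 1 := by
    rw [← map_pow, show (⟨g, hg⟩ : normalizer (B : Set G)) ^ p ^ n = 1 from Subtype.ext hgo, map_one]
  have hσ' : σ.toEquiv ^ p ^ n = (1 : Equiv.Perm B) := by
    have := congrArg (MulAut.toPerm B) hσ
    rwa [map_pow, map_one] at this
  obtain ⟨b, hb, hb1⟩ := Equiv.Perm.exists_fixed_point_of_prime' (a := (1 : B))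
    (by rwa [← Nat.card_eq_fintype_card]) hσ' (map_one σ)
  refine ⟨b, b.2, fun e => hb1 (Subtype.ext e), ?_⟩
  have h3 : g * (b : G) * g⁻¹ = b := congrArg Subtype.val hb
  exact (mul_inv_eq_iff_eq_mul.mp h3).symm

/-- A `p`-group meets a nontrivial normal subgroup in a central element of order `p`. -/
theorem exists_central [Finite G] {p : ℕ} (hp : p.Prime) {P A : Subgroup G} (hP : IsPGroup p P)
    (hA : A ≤ P) (hn : P ≤ normalizer (A : Set G)) (hne : A ≠ ⊥) :
    ∃ z ∈ A, orderOf z = p ∧ ∀ y ∈ P, Commute y z := by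
  have := Fact.mk hp
  haveI : (A.subgroupOf P).Normal := normal_subgroupOf_of_le_normalizer hn
  obtain ⟨z, hz, hzc, hzo⟩ := Fusion.exists_central_element hP (A.subgroupOf P) (fun e => hne (by
    rwa [subgroupOf_eq_bot, disjoint_iff, inf_of_le_left hA] at e))
  exact ⟨z, hz, by rw [Subgroup.orderOf_coe]; exact hzo,
    fun y hy => congrArg Subtype.val (mem_center_iff.1 hzc ⟨y, hy⟩)⟩

/-- A power of order `p`. -/
theorem exists_pow_order [Finite G] {g : G} {p : ℕ} (hd : p ∣ orderOf g) :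
    orderOf (g ^ (orderOf g / p)) = p :=
  orderOf_pow_orderOf_div (orderOf_pos g).ne' hd

theorem exists_prime_pow [Finite G] {g : G} (hg : g ≠ 1) :
    ∃ p : ℕ, p.Prime ∧ p ∣ orderOf g ∧ orderOf (g ^ (orderOf g / p)) = p := by
  obtain ⟨p, hp, hd⟩ := Nat.exists_prime_and_dvd (mt orderOf_eq_one_iff.1 hg)
  exact ⟨p, hp, hd, exists_pow_order hd⟩

end Cfsg.Agent.Partition
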