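import Cfsg.Agent.InvAb.Config

/-!
# The two-point counting with subgroups that are only centralisers of their involutions

The argument of `InvAb.Conf.pair_inf` needs `A p` to be abelian only where one of the two
commuting elements is an involution.  This file repeats it in that generality.
-/

set_option autoImplicit false

open Subgroup MulAction
open Cfsg.Agent.Fg24.CT (Inv2 invAt swaps pair mem_pair pair_comm smul_of_swap)

namespace Cfsg.Agent.Partition

variable {G Ω : Type*} [Group G] [MulAction G Ω]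

/-- Points carrying subgroups which centralise their involutions. -/
structure Pts (A : Ω → Subgroup G) : Prop where
  fix : ∀ p, ∀ x ∈ A p, x • p = p
  normal : ∀ p (g : G), g • p = p → ∀ x ∈ A p, g * x * g⁻¹ ∈ A p
  comm : ∀ p, ∀ x ∈ A p, ∀ t ∈ A p, Inv2 t → Commute x t
  invol_cent : ∀ p (t : G), Inv2 t → t • p = p → ∀ g : G, Commute g t → g ∈ A p
  invol_fix : ∀ t : G, Inv2 t → ∃! p : Ω, t • p = p
  invol_exists : ∃ t : G, Inv2 t
  trans : ∀ p q : Ω, ∃ g : G, g • p = q
  disj : ∀ p q : Ω, p ≠ q → ∀ x ∈ A p, x ∈ A q → x = 1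

variable {A : Ω → Subgroup G} (hP : Pts A)
include hP

theorem Pts.invol_mem {p : Ω} {t : G} (ht : Inv2 t) (htp : t • p = p) : t ∈ A p :=
  hP.invol_cent p t ht htp t (Commute.refl t)

theorem Pts.fix_unique {t : G} (ht : Inv2 t) {p q : Ω} (hp : t • p = p) (hq : t • q = q) :
    p = q := (hP.invol_fix t ht).unique hp hq

/-- What commutes with an involution fixes its point. -/
theorem Pts.fix_of_commute {t g : G} (ht : Inv2 t) {p : Ω} (hp : t • p = p) (h : Commute g t) :
    g • p = p :=
  hP.fix_unique ht (by rw [smul_smul, ← h.eq, mul_smul, hp]) hp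

theorem Pts.invAt_nonempty (p : Ω) : ∃ t : G, t ∈ invAt G p := by
  obtain ⟨t, ht⟩ := hP.invol_exists
  obtain ⟨q, hq, -⟩ := hP.invol_fix t ht
  obtain ⟨g, hg⟩ := hP.trans q p
  exact ⟨g * t * g⁻¹, ht.conj g, by rw [mul_smul, mul_smul, inv_smul_eq_iff.2 hg.symm, hq, hg]⟩

/-- Involutions at distinct points are carried to one another by exactly one involution. -/
theorem Pts.exists_swap [Finite G] {p q : Ω} (hpq : p ≠ q) {t s : G} (ht : t ∈ invAt G p)
    (hs : s ∈ invAt G q) : ∃ w : G, w ∈ swaps G p q ∧ w * t * w = s := by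
  obtain ⟨⟨ht1, htp⟩, hs1, hsq⟩ := And.intro ht hs
  set c := t * s with hc
  have htct : t * c * t = c⁻¹ := by
    rw [hc, mul_inv_rev, hs1.inv_eq, ht1.inv_eq, ← mul_assoc t t s, ht1.2, one_mul]
  have hpow : ∀ i : ℕ, t * c ^ i * t = (c ^ i)⁻¹ := fun i => by
    have h := conj_pow (a := t) (b := c) (i := i)
    rw [ht1.inv_eq, htct, inv_pow] at h
    exact h.symm
  rcases Nat.even_or_odd' (orderOf c) with ⟨m, hm | hm⟩
  · -- a central involution would fix both points
    exfalso
    have hpos := orderOf_pos c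
    have hu1 : c ^ m ≠ 1 := pow_ne_one_of_lt_orderOf (by omega) (by omega)
    have hu2 : c ^ m * c ^ m = 1 := by rw [← pow_add, ← two_mul, ← hm, pow_orderOf_eq_one]
    have hut : Commute (c ^ m) t := by
      have h1 : t * c ^ m * t = c ^ m := by rw [hpow, inv_eq_of_mul_eq_one_right hu2]
      calc c ^ m * t = t * c ^ m * t * t := by rw [h1]
        _ = t * c ^ m := by rw [mul_assoc (t * c ^ m) t t, ht1.2, mul_one]
    have hus : Commute (c ^ m) s := by
      have h1 : s = t * c := by rw [hc, ← mul_assoc, ht1.2, one_mul]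
      rw [h1]
      exact hut.mul_right ((Commute.refl c).pow_left m)
    exact hpq (hP.fix_unique ⟨hu1, hu2⟩ (hP.fix_of_commute ht1 htp hut)
      (hP.fix_of_commute hs1 hsq hus))
  · set w := c ^ m * t with hw
    have hww : w * w = 1 := by
      rw [hw, show c ^ m * t * (c ^ m * t) = c ^ m * (t * c ^ m * t) by group, hpow, mul_inv_cancel]
    have hwtw : w * t * w = s := by
      have h1 : (c ^ m * c ^ m) * c = 1 := by
        rw [← pow_add, ← pow_succ, ← two_mul, ← hm, pow_orderOf_eq_one]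
      have h2 : c ^ m * c ^ m = c⁻¹ := eq_inv_of_mul_eq_one_left h1
      calc w * t * w = c ^ m * (t * t) * (c ^ m * t) := by rw [hw]; group
        _ = (c ^ m * c ^ m) * t := by rw [ht1.2]; group
        _ = s := by rw [h2, hc, mul_inv_rev, hs1.inv_eq, ht1.inv_eq, mul_assoc, ht1.2, mul_one]
    have hwt : w • p = q := by
      refine hP.fix_unique hs1 ?_ hsq
      rw [← hwtw, smul_smul, mul_assoc (w * t) w w, hww, mul_one, mul_smul, htp]
    refine ⟨w, ⟨⟨fun e => hpq ?_, hww⟩, hwt⟩, hwtw⟩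
    rw [← hwt, e, one_smul]

theorem Pts.conj_mem {p : Ω} {x : G} (hx : x ∈ A p) (g : G) : g * x * g⁻¹ ∈ A (g • p) := by
  obtain ⟨t, ht, htp⟩ := hP.invAt_nonempty p
  refine hP.invol_cent (g • p) _ (ht.conj g) ?_ _ ?_
  · rw [mul_smul, mul_smul, inv_smul_smul, htp]
  · have := (hP.comm p x hx t (hP.invol_mem ht htp) ht).map (MulAut.conj g).toMonoidHom
    simpa using this

theorem Pts.conj_swap_mem' {p q : Ω} {x w : G} (hx : x ∈ A p) (hw : w ∈ swaps G p q) :
    w * x * w ∈ A q := by
  have := hP.conj_mem hx w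
  rwa [hw.1.inv_eq, hw.2] at this

/-- What commutes with a non-trivial element of `A p` fixes `p`. -/
theorem Pts.cent_fix {p : Ω} {x g : G} (hx : x ∈ A p) (hx1 : x ≠ 1) (h : Commute g x) :
    g • p = p := by
  by_contra hne
  have h1 : g * x * g⁻¹ = x := by rw [h.eq, mul_inv_cancel_right]
  exact hx1 (hP.disj _ _ hne x (h1 ▸ hP.conj_mem hx g) hx)

theorem Pts.swap_unique {p q : Ω} (hpq : p ≠ q) {t s w v : G} (ht : t ∈ invAt G p)
    (hs : s ∈ invAt G q) (hw : Inv2 w) (hv : Inv2 v) (ew : w * t * w = s) (ev : v * t * v = s) :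
    w = v := by
  by_contra hne
  set c := v * w with hc
  have hcne : c ≠ 1 := fun e => hne (by rw [← hv.inv_eq]; exact eq_inv_of_mul_eq_one_right e)
  have hct : Commute c t := by
    have h1 : c * t * (w * v) = t := by
      calc c * t * (w * v) = v * (w * t * w) * v := by rw [hc]; group
        _ = v * (v * t * v) * v := by rw [ew, ev]
        _ = (v * v) * t * (v * v) := by group
        _ = t := by rw [hv.2]; group
    calc c * t = c * t * (w * v) * (v * w) := by
          rw [show c * t * (w * v) * (v * w) = c * t * (w * (v * v) * w) by group, hv.2, mul_one,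
            hw.2, mul_one]
      _ = t * c := by rw [h1]
  have hcA : c ∈ A p := hP.invol_cent p t ht.1 ht.2 c hct
  have hwc : w * c * w = c⁻¹ := by
    rw [hc, mul_inv_rev, hv.inv_eq, hw.inv_eq, mul_assoc w, mul_assoc v, hw.2, mul_one]
  have h2 : Commute s c⁻¹ := by
    show s * c⁻¹ = c⁻¹ * s
    rw [← ew, ← hwc]
    calc w * t * w * (w * c * w) = w * t * (w * w) * c * w := by group
      _ = w * (t * c) * w := by rw [hw.2]; group
      _ = w * (c * t) * w := by rw [hct.eq]
      _ = w * c * (w * w) * t * w := by rw [hw.2]; group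
      _ = w * c * w * (w * t * w) := by group
  exact hpq (hP.fix_unique hs.1 (hP.cent_fix (inv_mem hcA) (inv_ne_one.mpr hcne) h2) hs.2)

theorem Pts.conj_swap_mem {p q : Ω} {t w : G} (ht : t ∈ invAt G p) (hw : w ∈ swaps G p q) :
    w * t * w ∈ invAt G q := by
  refine ⟨?_, ?_⟩
  · have := ht.1.conj w
    rwa [hw.1.inv_eq] at this
  · rw [mul_smul, mul_smul, smul_of_swap hw, ht.2, hw.2]

theorem Pts.card_swaps [Finite G] {p q : Ω} (hpq : p ≠ q) :
    Nat.card (swaps G p q) = Nat.card (invAt G q) := by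
  obtain ⟨t, ht⟩ := hP.invAt_nonempty p
  refine Nat.card_congr (Equiv.ofBijective (fun w => ⟨(w : G) * t * w, hP.conj_swap_mem ht w.2⟩)
    ⟨fun w v e => Subtype.ext ?_, fun s => ?_⟩)
  · exact hP.swap_unique hpq ht (hP.conj_swap_mem ht v.2) w.2.1 v.2.1 (congrArg Subtype.val e) rfl
  · obtain ⟨w, hw, e⟩ := hP.exists_swap hpq ht s.2
    exact ⟨⟨w, hw⟩, Subtype.ext e⟩

theorem Pts.exists_swap' [Finite G] {p q : Ω} (hpq : p ≠ q) : ∃ w : G, w ∈ swaps G p q := by
  obtain ⟨t, ht⟩ := hP.invAt_nonempty p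
  obtain ⟨s, hs⟩ := hP.invAt_nonempty q
  obtain ⟨w, hw, -⟩ := hP.exists_swap hpq ht hs
  exact ⟨w, hw⟩

theorem Pts.conj_swap_pair {p q : Ω} {x w : G} (hx : x ∈ pair G p q) (hw : w ∈ swaps G p q) :
    w * x * w ∈ pair G p q :=
  ⟨show (w * x * w) • p = p by rw [mul_smul, mul_smul, hw.2, hx.2, smul_of_swap hw],
    show (w * x * w) • q = q by rw [mul_smul, mul_smul, smul_of_swap hw, hx.1, hw.2]⟩

/-- The two-point stabiliser meets `A p` trivially. -/
theorem Pts.pair_inf [Finite G] {p q : Ω} (hpq : p ≠ q) {d : G} (hd : d ∈ pair G p q)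
    (hdA : d ∈ A p) : d = 1 := by
  classical
  by_contra hd1
  let E : Subgroup G := A p ⊓ pair G p q
  obtain ⟨u, hu⟩ := hP.exists_swap' hpq
  obtain ⟨t, ht⟩ := hP.invAt_nonempty q
  have hE : ∀ x ∈ E, ∀ w ∈ swaps G p q, w * x * w ∈ A q ∧ w * x * w ∈ pair G p q :=
    fun x hx w hw => ⟨hP.conj_swap_mem' hx.1 hw, hP.conj_swap_pair hx.2 hw⟩
  have hback : ∀ y : G, y ∈ A q → y ∈ pair G p q → u * y * u ∈ E := fun y hy hy' =>
    ⟨hP.conj_swap_mem' hy (show u ∈ swaps G q p from ⟨hu.1, smul_of_swap hu⟩),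
      hP.conj_swap_pair hy' hu⟩
  -- products which are fixed by a swap
  have hprod : ∀ x ∈ E, ∀ w ∈ swaps G p q, Commute (x * (w * x * w)) w := by
    intro x hx w hw
    obtain ⟨h1, h2⟩ := hE x hx w hw
    set y := w * x * w with hy
    have hxy : Commute x y := by
      have hc : x * y * x⁻¹ * y⁻¹ = 1 := by
        refine hP.disj p q hpq _ ?_ ?_
        · rw [show x * y * x⁻¹ * y⁻¹ = x * (y * x⁻¹ * y⁻¹) by group]
          exact mul_mem hx.1 (hP.normal p y h2.1 _ (inv_mem hx.1))
        · exact mul_mem (hP.normal q x hx.2.2 _ h1) (inv_mem h1)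
      exact mul_inv_eq_iff_eq_mul.mp (mul_inv_eq_one.mp hc)
    have hww := hw.1.2
    show x * y * w = w * (x * y)
    rw [hxy.eq, hy]
    calc w * x * w * x * w = w * x * (w * x * w) := by group
      _ = w * (x * (w * x * w)) := by group
      _ = _ := by rw [← hy, hxy.eq]
  -- distinct swaps fix distinct points
  let r : swaps G p q → Ω := fun w => (hP.invol_fix w w.2.1).choose
  have hr : ∀ w : swaps G p q, (w : G) • r w = r w := fun w =>
    (hP.invol_fix w w.2.1).choose_spec.1
  have hrp : ∀ w : swaps G p q, r w ≠ p := fun w e => hpq (by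
    have := hr w; rw [e, w.2.2] at this; exact this.symm)
  have hrinj : Function.Injective r := by
    intro w v e
    by_contra hne
    have hwA : (w : G) ∈ A (r w) := hP.invol_mem w.2.1 (hr w)
    have hvA : (v : G) ∈ A (r w) := hP.invol_mem v.2.1 (e.symm ▸ hr v)
    have hc : Inv2 ((w : G) * v) := by
      refine ⟨fun e1 => hne (Subtype.ext ?_), ?_⟩
      · rw [← w.2.1.inv_eq, inv_eq_of_mul_eq_one_right e1]
      · rw [show (w : G) * v * (w * v) = w * (v * w) * v by group,
          (hP.comm _ _ hvA _ hwA w.2.1).eq, show (w : G) * (w * v) * v = (w * w) * (v * v) by group,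
          w.2.1.2, v.2.1.2, mul_one]
    refine hrp w (hP.fix_unique hc (hP.fix _ _ (mul_mem hwA hvA)) ?_)
    rw [mul_smul, v.2.2, smul_of_swap w.2]
  let Φ : Option (Option (swaps G p q)) × {x : E // x ≠ 1} → {z : E × E // z ≠ 1} :=
    fun z => ⟨match z.1 with
      | none => (z.2.1, 1)
      | some none => (1, z.2.1)
      | some (some w) => (z.2.1, ⟨_, hback _ (hE _ z.2.1.2 w w.2).1 (hE _ z.2.1.2 w w.2).2⟩), by
      rcases z with ⟨_ | _ | w, x⟩ <;> simp only [ne_eq, Prod.mk_eq_one, not_and] <;>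
        first
          | exact fun h => absurd h x.2
          | exact fun _ => x.2⟩
  have hzero : ∀ (w : swaps G p q) (x : G), u * ((w : G) * x * w) * u = 1 → x = 1 := by
    intro w x h
    calc x = (w : G) * u * (u * ((w : G) * x * w) * u) * (u * w) := by
          rw [show (w : G) * u * (u * ((w : G) * x * w) * u) * (u * w)
            = w * (u * u) * w * x * w * (u * u) * w by group, hu.1.2, mul_one, mul_one, w.2.1.2,
            one_mul, mul_assoc, w.2.1.2, mul_one]
      _ = 1 := by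
          rw [h, mul_one, show (w : G) * u * (u * w) = w * (u * u) * w by group, hu.1.2, mul_one,
            w.2.1.2]
  have hΦ : Function.Injective Φ := by
    rintro ⟨a, ⟨⟨x, hx⟩, hx1⟩⟩ ⟨b, ⟨⟨y, hy⟩, hy1⟩⟩ e
    have hxne : x ≠ 1 := fun h => hx1 (Subtype.ext h)
    have hyne : y ≠ 1 := fun h => hy1 (Subtype.ext h)
    have e' := congrArg Subtype.val e
    simp only [Φ] at e'
    rcases a with _ | _ | w <;> rcases b with _ | _ | v <;>
      simp only [Prod.mk.injEq, Subtype.ext_iff, OneMemClass.coe_one] at e'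
    · obtain ⟨rfl, -⟩ := e'; rfl
    · exact absurd e'.1 hxne
    · exact absurd (hzero v y e'.2.symm) hyne
    · exact absurd e'.1.symm hyne
    · obtain ⟨-, rfl⟩ := e'; rfl
    · exact absurd e'.1.symm hyne
    · exact absurd (hzero w x e'.2) hxne
    · exact absurd e'.1 hxne
    · obtain ⟨rfl, e2⟩ := e'
      have e3 : (w : G) * x * w = (v : G) * x * v :=
        mul_left_cancel (mul_right_cancel e2)
      obtain rfl : w = v := by
        by_contra hne
        refine hxne (hP.disj p q hpq x hx.1 ?_)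
        have h1 : x * ((w : G) * x * w) = 1 := hP.disj _ _ (fun h => hne (hrinj h)) _
          (hP.invol_cent _ _ w.2.1 (hr w) _ (hprod x hx w w.2))
          (e3 ▸ hP.invol_cent _ _ v.2.1 (hr v) _ (hprod x hx v v.2))
        rw [eq_inv_of_mul_eq_one_left h1]
        exact inv_mem (hE x hx w w.2).1
      rfl
  have hle : Nat.card E ≤ Nat.card (swaps G p q) := by
    rw [hP.card_swaps hpq]
    refine Nat.card_le_card_of_injective (fun x : E => (⟨(x : G) * t * (x : G)⁻¹, ht.1.conj _, ?_⟩ :
      invAt G q)) fun x y e => ?_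
    · rw [mul_smul, mul_smul, inv_smul_eq_iff.2 x.2.2.2.symm, ht.2, x.2.2.2]
    · have e' : (x : G) * t * (x : G)⁻¹ = (y : G) * t * (y : G)⁻¹ := congrArg Subtype.val e
      refine Subtype.ext (eq_of_inv_mul_eq_one (hP.disj p q hpq _
        (mul_mem (inv_mem y.2.1) x.2.1) (hP.invol_cent q t ht.1 ht.2 _ ?_))).symm
      show (y : G)⁻¹ * x * t = t * ((y : G)⁻¹ * x)
      calc (y : G)⁻¹ * x * t = (y : G)⁻¹ * (x * t * (x : G)⁻¹) * x := by group
        _ = _ := by rw [e']; group
  have h2 : 2 ≤ Nat.card E := by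
    have : Nontrivial E := ⟨⟨⟨d, hdA, hd⟩, 1, fun e => hd1 (congrArg Subtype.val e)⟩⟩
    exact Finite.one_lt_card
  have hne1 : ∀ (α : Type _) [One α] [Finite α], Nat.card {z : α // z ≠ 1} + 1 = Nat.card α :=
    fun α _ _ => by rw [← Finite.card_option]; exact Nat.card_congr (Equiv.optionSubtypeNe 1)
  have hcard := Nat.card_le_card_of_injective Φ hΦ
  have e1 := hne1 E
  have e2 := hne1 (E × E)
  rw [Nat.card_prod, Finite.card_option, Finite.card_option] at hcard
  rw [Nat.card_prod] at e2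
  nlinarith

end Cfsg.Agent.Partition
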