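import Cfsg.Agent.Partition.Normal
import Cfsg.Agent.Partition.PairInf
import Cfsg.Agent.SuzukiTI.Main
import Cfsg.Agent.IIGroups.Basic
import Cfsg.Agent.Invol.Pair
import Mathlib.GroupTheory.Focal

/-!
# Normal partitions in which commuting involutions share their component

If no component is normal or self-normalising and there is no solvable normal subgroup, then the
component of an involution satisfies Suzuki's hypothesis `SuzukiTI.Hyp`.
-/

set_option autoImplicit false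
set_option linter.unusedSectionVars false

open Subgroup MulAction
open scoped commutatorElement
open Cfsg.Agent.Fg24.CT (Inv2)

namespace Cfsg.Agent.Partition

universe u

variable {G : Type u} [Group G] [Finite G] {K : G → Subgroup G} (h : IsNP K)
include h

/-- The partition induced on a subgroup which lies in no component. -/
theorem IsNP.restrict {M : Subgroup G} (hM : ∀ x ∈ M, ¬ M ≤ K x) :
    IsNP (fun a : M => (K (a : G)).subgroupOf M) where
  mem g := mem_subgroupOf.2 (h.mem _)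
  one := by rw [OneMemClass.coe_one, h.one, bot_subgroupOf]
  eq {x y} hx hxy := by rw [h.eq (fun e => hx (Subtype.ext e)) (mem_subgroupOf.1 hxy)]
  conj {c x y} := by
    simp only [mem_subgroupOf, Subgroup.coe_mul, Subgroup.coe_inv]
    exact h.conj
  ne_top x e := hM x x.2 (subgroupOf_eq_top.1 e)

variable (hR : ∀ t u : G, orderOf t = 2 → orderOf u = 2 → Commute t u → K t = K u)
include hR

theorem IsNP.cent_le_comp {t : G} (ht : orderOf t = 2) : centralizer ({t} : Set G) ≤ K t := by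
  intro g hg
  have hc : Commute t g := (mem_centralizer_singleton_iff.1 hg).symm
  by_cases hg1 : g = 1
  · exact hg1 ▸ one_mem _
  by_cases e : K t = K g
  · exact e ▸ h.mem g
  · exact (hR t g ht ((h.order_eq hc (IIGroups.ne_one_of_two ht) hg1 e).1.symm.trans ht) hc) ▸
      h.mem g

theorem IsNP.two_invol (hss : IIGroups.SS G) {t : G} (ht : orderOf t = 2) :
    ∃ a b : G, a ∈ K t ∧ b ∈ K t ∧ orderOf a = 2 ∧ orderOf b = 2 ∧ a ≠ b := by
  haveI := Fact.mk Nat.prime_two
  obtain ⟨S, hS⟩ := (IsPGroup.of_card (n := 1) (by rw [Nat.card_zpowers, ht, pow_one]) :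
    IsPGroup 2 (zpowers t)).exists_le_sylow
  have htS : t ∈ (S : Subgroup G) := hS (mem_zpowers t)
  obtain ⟨z, hzS, hzo, hzc⟩ := exists_central Nat.prime_two S.2 le_rfl le_normalizer
    (S.ne_bot_of_dvd_card (ht ▸ orderOf_dvd_natCard t))
  have e : K t = K z := hR t z ht hzo (hzc t htS)
  obtain ⟨g, hgS, hgne⟩ := hss.exists_conj S hzo hzS
  have ho : orderOf (g * z * g⁻¹) = 2 := by rw [Invol.orderOf_conj, hzo]
  exact ⟨z, g * z * g⁻¹, e ▸ h.mem z, (e.trans (hR z _ hzo ho (hzc _ hgS).symm)) ▸ h.mem _, hzo, ho,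
    hgne.symm⟩

/-- The normaliser of the component of an involution has all its involutions in it. -/
theorem IsNP.invol_mem {t u : G} (ht : orderOf t = 2) (hu : orderOf u = 2)
    (hn : u ∈ normalizer (K t : Set G)) : u ∈ K t := by
  obtain ⟨b, hb, hb1, hc⟩ := exists_fixed (K t) hn (n := 1) Nat.prime_two
    (by rw [pow_one, ← hu, pow_orderOf_eq_one]) (ht ▸ Subgroup.orderOf_dvd_natCard _ (h.mem t))
  by_cases e : K b = K u
  · rw [← h.eq hb1 hb, e]; exact h.mem u
  · exact absurd (hR b u ((h.order_eq hc hb1 (IIGroups.ne_one_of_two hu) e).1.trans hu) hu hc) e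

variable (hnn : ∀ x : G, x ≠ 1 → normalizer (K x : Set G) ≠ ⊤)
include hnn

theorem IsNP.invol_isConj {t u : G} (ht : orderOf t = 2) (hu : orderOf u = 2) :
    ∃ g : G, g * t * g⁻¹ = u := by
  have key : ∀ a b : G, orderOf a = 2 → orderOf b = 2 → K a ≠ K b → IsConj a b := by
    intro a b ha hb hne
    refine Invol.isConj_of_odd ha hb (Nat.not_even_iff_odd.1 fun hev => hne ?_)
    have hi := Invol.orderOf_central (x := a) (y := b) hev (orderOf_pos _)
    exact (hR _ a hi ha (Invol.commute_central ha hb hev)).symm.trans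
      (hR _ b hi hb (Invol.commute_central' ha hb hev))
  refine isConj_iff.1 ?_
  by_cases e : K t = K u
  · obtain ⟨g, hg⟩ : ∃ g, g ∉ normalizer (K t : Set G) := by
      by_contra! hno
      exact hnn t (IIGroups.ne_one_of_two ht) (eq_top_iff.2 fun g _ => hno g)
    have hv : orderOf (g * t * g⁻¹) = 2 := by rw [Invol.orderOf_conj, ht]
    have hne : K (g * t * g⁻¹) ≠ K t := fun e' =>
      hg (h.mem_normalizer (IIGroups.ne_one_of_two ht) (h.mem t) (e' ▸ h.mem _))
    exact (key t _ ht hv hne.symm).trans (key _ u hv hu (e ▸ hne))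
  · exact key t u ht hu e

variable (hesc : ∀ x : G, x ≠ 1 → normalizer (K x : Set G) ≠ K x)
include hesc

theorem IsNP.cent_eq {t : G} (ht : orderOf t = 2) : centralizer ({t} : Set G) = K t := by
  refine le_antisymm (h.cent_le_comp hR ht) fun y hy => ?_
  obtain ⟨a, ha, hao⟩ := exists_center_prime
    (h.isNilpotent_component (hesc t (IIGroups.ne_one_of_two ht))) Nat.prime_two
    (ht ▸ Subgroup.orderOf_dvd_natCard _ (h.mem t))
  obtain ⟨g, he⟩ := h.invol_isConj hR hnn hao ht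
  have hg : g ∈ normalizer (K t : Set G) :=
    h.mem_normalizer (IIGroups.ne_one_of_two hao) ha.1 (he.symm ▸ h.mem t)
  have h1 : Commute (g⁻¹ * y * g) a := ha.2.2 _ ((mem_normalizer_iff''.1 hg y).1 hy)
  have h2 := (Commute.conj_iff g).2 h1
  rw [he, show g * (g⁻¹ * y * g) * g⁻¹ = y by group] at h2
  exact mem_centralizer_singleton_iff.2 h2.eq

theorem IsNP.cent_component_le (hss : IIGroups.SS G) {t y : G} (ht : orderOf t = 2) (hy : y ∈ K t)
    (hy1 : y ≠ 1) : centralizer ({y} : Set G) ≤ K t := by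
  intro g hgy
  by_contra hg
  have hc : Commute g y := mem_centralizer_singleton_iff.1 hgy
  set N := normalizer (K t : Set G) with hNdef
  have hXN : K t ≤ N := le_normalizer
  have ht1 := IIGroups.ne_one_of_two ht
  have hg1 : g ≠ 1 := fun e => hg (e ▸ one_mem _)
  have hgN : g ∈ N := h.mem_normalizer_of_commute hy1 hy hc
  obtain ⟨hog, hp⟩ := h.order_eq hc hg1 hy1 (h.ne_comp hg hy hy1)
  set p := orderOf g with hpdef
  have := Fact.mk hp
  have hp2 : p ≠ 2 := fun e => hg (h.invol_mem hR ht e hgN)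
  -- inside the normaliser
  have h' := h.restrict (M := N) fun x _ hle => by
    have e : K t = K x := h.eq ht1 (hle (hXN (h.mem t)))
    exact hesc t ht1 (le_antisymm (hle.trans_eq e.symm) hXN)
  have hn' : ((K t).subgroupOf N).Normal := normal_subgroupOf_of_le_normalizer le_rfl
  have hnp : ¬ IsPGroup p ((K t).subgroupOf N) := fun hP => by
    obtain ⟨k, hk⟩ := IsPGroup.iff_orderOf.1 hP ⟨⟨t, hXN (h.mem t)⟩, mem_subgroupOf.2 (h.mem t)⟩
    rw [Subgroup.orderOf_mk, Subgroup.orderOf_mk, ht] at hk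
    rcases k with _ | k
    · simp at hk
    · exact hp2 ((Nat.prime_dvd_prime_iff_eq hp Nat.prime_two).1 (hk ▸ dvd_pow_self p k.succ_ne_zero))
  obtain ⟨hidx, hexp'⟩ := IsNP.coset_order (G := N) h' (x₀ := ⟨t, hXN (h.mem t)⟩) (hn := hn')
    (g := ⟨g, hgN⟩) (k := ⟨y, hXN hy⟩) (fun hm => hg (mem_subgroupOf.1 hm)) (mem_subgroupOf.2 hy)
    (fun e => hy1 (congrArg Subtype.val e)) (Subtype.ext hc.eq)
    (by rw [Subgroup.orderOf_mk]; exact hnp)
  rw [Subgroup.orderOf_mk, ← hpdef] at hidx hexp'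
  have hexp : ∀ w ∈ N, w ∉ K t → w ^ p = 1 := fun w hw hwX =>
    congrArg Subtype.val (hexp' ⟨w, hw⟩ fun hm => hwX (mem_subgroupOf.1 hm))
  -- the points
  let A : G ⧸ N → Subgroup G := fun q => K (q.out * t * q.out⁻¹)
  have hA : ∀ k z : G, z ∈ A (k : G ⧸ N) ↔ k⁻¹ * z * k ∈ K t := fun k z => by
    obtain ⟨n, hn⟩ := QuotientGroup.mk_out_eq_mul N k
    show z ∈ K _ ↔ _
    rw [h.conj, hn, mem_normalizer_iff''.1 n.2 (k⁻¹ * z * k), mul_inv_rev]
    simp only [mul_assoc]
  have hsmul : ∀ x k : G, x • (k : G ⧸ N) = k ↔ k⁻¹ * x * k ∈ N := fun x k => by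
    rw [eq_comm, show x • (k : G ⧸ N) = ((x * k : G) : G ⧸ N) from rfl, QuotientGroup.eq, mul_assoc]
  have hsame : ∀ a b z : G, z ≠ 1 → a⁻¹ * z * a ∈ K t → b⁻¹ * z * b ∈ K t →
      (a : G ⧸ N) = b := fun a b z hz ha hb => by
    refine QuotientGroup.eq.2 (h.mem_normalizer (y := b⁻¹ * z * b) ?_ hb ?_)
    · intro e
      have e1 : b⁻¹ * z * b⁻¹⁻¹ = 1 := by rwa [inv_inv]
      exact hz (conj_eq_one_iff.1 e1)
    · rwa [show a⁻¹ * b * (b⁻¹ * z * b) * (a⁻¹ * b)⁻¹ = a⁻¹ * z * a by group]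
  have hinv : ∀ {u : G}, Inv2 u → ∀ k : G, k⁻¹ * u * k ∈ N →
      k⁻¹ * u * k ∈ K t ∧ centralizer ({k⁻¹ * u * k} : Set G) = K t := fun {u} hu k hk => by
    have ho : orderOf (k⁻¹ * u * k) = 2 := by
      have := SuzukiTI.orderOf_inv2 (hu.conj k⁻¹)
      rwa [inv_inv] at this
    have hm := h.invol_mem hR ht ho hk
    exact ⟨hm, (h.cent_eq hR hnn hesc ho).trans (h.eq (IIGroups.ne_one_of_two ho) hm)⟩
  have hP : Pts A :=
    { fix := fun q x hx => by
        induction q using QuotientGroup.induction_on with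
        | H k => exact (hsmul x k).2 (hXN ((hA k x).1 hx))
      normal := fun q g₁ hg₁ x hx => by
        induction q using QuotientGroup.induction_on with
        | H k =>
          rw [hA, show k⁻¹ * (g₁ * x * g₁⁻¹) * k =
            (k⁻¹ * g₁ * k) * (k⁻¹ * x * k) * (k⁻¹ * g₁ * k)⁻¹ by group]
          exact (mem_normalizer_iff.1 ((hsmul g₁ k).1 hg₁) _).1 ((hA k x).1 hx)
      comm := fun q x hx u hu hu2 => by
        induction q using QuotientGroup.induction_on with
        | H k =>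
          have h1 : k⁻¹ * x * k ∈ centralizer ({k⁻¹ * u * k} : Set G) := by
            rw [(hinv hu2 k (hXN ((hA k u).1 hu))).2]; exact (hA k x).1 hx
          have h2 : Commute (k⁻¹ * x * k⁻¹⁻¹) (k⁻¹ * u * k⁻¹⁻¹) := by
            rw [inv_inv]; exact mem_centralizer_singleton_iff.1 h1
          exact (Commute.conj_iff k⁻¹).1 h2
      invol_cent := fun q u hu hfix g₁ hg₁ => by
        induction q using QuotientGroup.induction_on with
        | H k =>
          rw [hA, ← (hinv hu k ((hsmul u k).1 hfix)).2]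
          refine mem_centralizer_singleton_iff.2 ?_
          have h2 := ((Commute.conj_iff k⁻¹).2 hg₁).eq
          rwa [inv_inv] at h2
      invol_fix := fun u hu => by
        obtain ⟨k, rfl⟩ := h.invol_isConj hR hnn ht (SuzukiTI.orderOf_inv2 hu)
        refine ⟨(k : G ⧸ N), ?_, fun q hq => ?_⟩
        · show (k * t * k⁻¹) • (k : G ⧸ N) = k
          rw [hsmul, show k⁻¹ * (k * t * k⁻¹) * k = t by group]
          exact hXN (h.mem t)
        · induction q using QuotientGroup.induction_on with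
          | H l =>
            refine hsame l k _ hu.1 (hinv hu l ((hsmul _ l).1 hq)).1 ?_
            rw [show k⁻¹ * (k * t * k⁻¹) * k = t by group]
            exact h.mem t
      invol_exists := ⟨t, SuzukiTI.inv2_of_orderOf ht⟩
      trans := fun q r => MulAction.exists_smul_eq G q r
      disj := fun q r hqr x hx hx' => by
        induction q using QuotientGroup.induction_on with
        | H a =>
          induction r using QuotientGroup.induction_on with
          | H b => exact by_contra fun hx1 => hqr (hsame a b x hx1 ((hA a x).1 hx) ((hA b x).1 hx')) }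
  -- a non-trivial element of the component lies in no other conjugate of the normaliser
  have hkey : ∀ k x : G, x ∈ K t → x ≠ 1 → k * x * k⁻¹ ∈ N → k ∈ N := fun k x hx hx1 hk => by
    by_contra hkN
    refine hx1 (conj_eq_one_iff.1 (hP.pair_inf (p := (k : G ⧸ N)) (q := ((1 : G) : G ⧸ N))
      (fun e => hkN ?_) (d := k * x * k⁻¹) ⟨?_, ?_⟩ ?_))
    · have := QuotientGroup.eq.1 e
      rwa [mul_one, inv_mem_iff] at this
    · show (k * x * k⁻¹) • (k : G ⧸ N) = k
      rw [hsmul, show k⁻¹ * (k * x * k⁻¹) * k = x by group]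
      exact hXN hx
    · show (k * x * k⁻¹) • ((1 : G) : G ⧸ N) = ((1 : G) : G ⧸ N)
      rwa [hsmul, inv_one, one_mul, mul_one]
    · rwa [hA, show k⁻¹ * (k * x * k⁻¹) * k = x by group]
  have hQN : ∀ Q : Subgroup G, IsPGroup p Q → ∀ z ∈ Q, z ∈ K t → z ≠ 1 → Q ≤ N := by
    intro Q hQ z hzQ hzX hz1
    by_contra hle
    haveI := hQ.isNilpotent
    obtain ⟨q, hq, hqH⟩ := SetLike.exists_of_lt (Group.normalizerCondition_of_isNilpotent
      (N.subgroupOf Q) (lt_top_iff_ne_top.2 fun e => hle (subgroupOf_eq_top.1 e)))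
    have h1 := (mem_normalizer_iff.1 hq ⟨z, hzQ⟩).1 (mem_subgroupOf.2 (hXN hzX))
    exact hqH (mem_subgroupOf.2 (hkey q z hzX hz1 (mem_subgroupOf.1 h1)))
  -- a Sylow subgroup
  have hyp' : IsPGroup p (zpowers y) := IsPGroup.of_card (n := 1) (by
    rw [Nat.card_zpowers, pow_one, hog])
  obtain ⟨P, hyP⟩ := hyp'.exists_le_sylow
  have hy' : y ∈ (P : Subgroup G) := hyP (mem_zpowers y)
  have hPN : (P : Subgroup G) ≤ N := hQN P P.2 y hy' hy hy1
  obtain ⟨z, ⟨hzX, hzP⟩, hzo, hzc⟩ := exists_central hp P.2 (A := K t ⊓ P) inf_le_right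
    (Coprime.le_normalizer_inf hPN le_normalizer)
    (fun e => hy1 (mem_bot.1 (e ▸ ⟨hy, hy'⟩)))
  have hz1 : z ≠ 1 := fun e => hp.one_lt.ne (by rw [← hzo, e, orderOf_one])
  have hcN : ∀ a ∈ N, ∀ b ∈ N, a⁻¹ * (b * a * b⁻¹) ∈ K t := by
    intro a ha b hb
    haveI := hn'
    have hcard : Nat.card (N ⧸ (K t).subgroupOf N) = p := by rw [← index_eq_card]; exact hidx
    haveI := isCyclic_of_prime_card hcard
    obtain ⟨γ, hγ⟩ := IsCyclic.exists_generator (α := N ⧸ (K t).subgroupOf N)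
    obtain ⟨i, hi⟩ := hγ ((⟨a, ha⟩ : N) : N ⧸ (K t).subgroupOf N)
    obtain ⟨j, hj⟩ := hγ ((⟨b, hb⟩ : N) : N ⧸ (K t).subgroupOf N)
    have h1 : (((⟨a, ha⟩ : N)⁻¹ * (⟨b, hb⟩ * ⟨a, ha⟩ * (⟨b, hb⟩ : N)⁻¹) : N) :
        N ⧸ (K t).subgroupOf N) = 1 := by
      rw [QuotientGroup.mk_mul, QuotientGroup.mk_mul, QuotientGroup.mk_mul, QuotientGroup.mk_inv,
        QuotientGroup.mk_inv, ← hi, ← hj]
      simp only [← zpow_neg, ← zpow_add]
      rw [show -i + (j + i + -j) = 0 by ring, zpow_zero]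
    exact mem_subgroupOf.1 ((QuotientGroup.eq_one_iff _).1 h1)
  have hfus : ∀ a ∈ (P : Subgroup G), ∀ k : G, k * a * k⁻¹ ∈ (P : Subgroup G) →
      a⁻¹ * (k * a * k⁻¹) ∈ K t := by
    intro a ha k hka
    suffices hn : ∃ n ∈ N, n * a * n⁻¹ = k * a * k⁻¹ by
      obtain ⟨n, hn, e⟩ := hn
      exact e ▸ hcN a (hPN ha) n hn
    set C := centralizer ({k * a * k⁻¹} : Set G) with hC
    have hz₁ : z ∈ C := mem_centralizer_singleton_iff.2 (hzc _ hka).symm.eq
    have hz₂ : k * z * k⁻¹ ∈ C :=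
      mem_centralizer_singleton_iff.2 ((Commute.conj_iff k).2 (hzc a ha).symm).eq
    have hpz : ∀ w : C, orderOf (w : G) = p → IsPGroup p (zpowers w) := fun w hw =>
      IsPGroup.of_card (n := 1) (by rw [Nat.card_zpowers, pow_one, ← hw, Subgroup.orderOf_coe])
    obtain ⟨Q₁, hQ₁⟩ := (hpz ⟨z, hz₁⟩ hzo).exists_le_sylow
    obtain ⟨Q₂, hQ₂⟩ := (hpz ⟨k * z * k⁻¹, hz₂⟩ (by rw [Invol.orderOf_conj, hzo])).exists_le_sylow
    obtain ⟨c, hcQ⟩ := MulAction.exists_smul_eq C Q₁ Q₂
    have hcz : c * ⟨z, hz₁⟩ * c⁻¹ ∈ (Q₂ : Subgroup C) := by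
      rw [← hcQ]
      exact Subgroup.smul_mem_pointwise_smul _ (MulAut.conj c) _ (hQ₁ (mem_zpowers _))
    let ψ : C →* G := (MulAut.conj k⁻¹).toMonoidHom.comp C.subtype
    have hψ : ∀ w : C, ψ w = k⁻¹ * w * k := fun w => by simp [ψ]
    have hle := hQN ((Q₂ : Subgroup C).map ψ) (Q₂.2.map ψ) z
      ⟨⟨k * z * k⁻¹, hz₂⟩, hQ₂ (mem_zpowers _), by rw [hψ]; group⟩ hzX hz1
    have h1 := hle ⟨_, hcz, rfl⟩
    rw [hψ] at h1
    have h2 : k⁻¹ * (c : G) ∈ N := hkey _ z hzX hz1 (by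
      simpa [mul_assoc] using h1)
    refine ⟨(c : G)⁻¹ * k, by simpa using inv_mem h2, ?_⟩
    have h3 : (c : G) * (k * a * k⁻¹) = k * a * k⁻¹ * c := mem_centralizer_singleton_iff.1 c.2
    calc (c : G)⁻¹ * k * a * ((c : G)⁻¹ * k)⁻¹ = (c : G)⁻¹ * (k * a * k⁻¹ * c) := by group
      _ = k * a * k⁻¹ := by rw [← h3]; group
  have hfoc : _root_.commutator G ⊓ (P : Subgroup G) ≤ K t := by
    rw [commutator_inf_eq_focalSubgroup P, focalSubgroup_def, closure_le]
    rintro _ ⟨hgP, x, hx, w, rfl⟩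
    have h1 := hfus x⁻¹ (inv_mem hx) w (by
      rw [show w * x⁻¹ * w⁻¹ = x⁻¹ * ⁅x, w⁆ by rw [commutatorElement_def]; group]
      exact mul_mem (inv_mem hx) hgP)
    rwa [inv_inv, show x * (w * x⁻¹ * w⁻¹) = ⁅x, w⁆ by rw [commutatorElement_def]; group] at h1
  have hconjP : ∀ w ∈ N, ∀ j : ℕ, w ^ p ^ j = 1 → ∃ n ∈ N, n * w * n⁻¹ ∈ (P : Subgroup G) := by
    intro w hw j hj
    obtain ⟨i, -, hi⟩ := (Nat.dvd_prime_pow hp).1 (orderOf_dvd_of_pow_eq_one hj)
    obtain ⟨Q, hQ⟩ := (IsPGroup.of_card (n := i) (by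
      rw [Nat.card_zpowers, Subgroup.orderOf_mk, hi]) :
      IsPGroup p (zpowers (⟨w, hw⟩ : N))).exists_le_sylow
    obtain ⟨n, hn⟩ := MulAction.exists_smul_eq N Q (P.subtype hPN)
    refine ⟨n, n.2, ?_⟩
    have : n * ⟨w, hw⟩ * n⁻¹ ∈ ((P.subtype hPN : Sylow p N) : Subgroup N) := by
      rw [← hn]
      exact Subgroup.smul_mem_pointwise_smul _ (MulAut.conj n) _ (hQ (mem_zpowers _))
    exact this
  -- the subgroup `L`
  set L := _root_.commutator G ⊔ K t with hLdef
  have hLN : ∀ w ∈ L, w ∈ N → w ∈ K t := by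
    intro w hwL hwN
    by_contra hwX
    obtain ⟨c, hc', x, hx, rfl⟩ := mem_sup_of_normal_left.1 hwL
    obtain ⟨n, hn, hnP⟩ := hconjP _ hwN 1 (by rw [pow_one]; exact hexp _ hwN hwX)
    set w' := n * (c * x) * n⁻¹ with hw'def
    have hw'X : w' ∉ K t := fun hm => hwX ((mem_normalizer_iff.1 hn _).2 hm)
    have hw'1 : w' ≠ 1 := fun e => hw'X (e ▸ one_mem _)
    have hw'o : orderOf w' = p := orderOf_eq_prime (hexp _ (hPN hnP) hw'X) hw'1
    obtain ⟨e, m, hm, ho⟩ := Nat.exists_eq_pow_mul_and_not_dvd (orderOf_pos x).ne' p hp.ne_one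
    obtain ⟨n₂, hn₂, hn₂P⟩ := hconjP (x ^ m) (hXN (pow_mem hx m)) e (by
      rw [← pow_mul, mul_comm, ← ho, pow_orderOf_eq_one])
    have hn₂X : n₂ * x ^ m * n₂⁻¹ ∈ K t := (mem_normalizer_iff.1 hn₂ _).1 (pow_mem hx m)
    have hker : w' ^ m * (n₂ * x ^ m * n₂⁻¹)⁻¹ ∈ _root_.commutator G := by
      have hof : Abelianization.of c = 1 := (QuotientGroup.eq_one_iff c).2 hc'
      refine (QuotientGroup.eq_one_iff _).1 ?_
      show Abelianization.of _ = 1
      simp only [hw'def, map_mul, map_inv, map_pow, hof, one_mul]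
      simp only [mul_right_comm _ _ (Abelianization.of n)⁻¹,
        mul_right_comm _ _ (Abelianization.of n₂)⁻¹, mul_inv_cancel, one_mul]
    have h1 : w' ^ m ∈ K t := by
      have h3 := hfoc (Subgroup.mem_inf.2
        ⟨hker, Subgroup.mul_mem _ (Subgroup.pow_mem _ hnP m) (Subgroup.inv_mem _ hn₂P)⟩)
      have := mul_mem h3 hn₂X
      rwa [inv_mul_cancel_right] at this
    exact h.pow_not_mem hw'X (fun e1 => hm (hw'o ▸ orderOf_dvd_of_pow_eq_one e1)) h1
  -- the final contradiction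
  have hXL : K t ≤ L := le_sup_right
  have hH : SuzukiTI.Hyp ((K t).subgroupOf L) := by
    refine ⟨fun e => hnn t ht1 (eq_top_iff.2 fun k _ => ?_), ?_, fun u hu hu2 => ?_,
      fun v hv hv1 => ?_⟩
    · have hGX : _root_.commutator G ≤ K t := fun l hl => by
        have hlL : l ∈ L := mem_sup_left hl
        refine hLN l hlL (h.mem_normalizer ht1 (h.mem t) ?_)
        have h4 := (mem_normalizer_iff.1 (e ▸ mem_top (⟨l, hlL⟩ : L)) ⟨t, hXL (h.mem t)⟩).1
          (mem_subgroupOf.2 (h.mem t))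
        exact mem_subgroupOf.1 h4
      refine h.mem_normalizer ht1 (h.mem t) ?_
      rw [show k * t * k⁻¹ = ⁅k, t⁆ * t by rw [commutatorElement_def]; group]
      exact mul_mem (hGX (commutator_mem_commutator (mem_top k) (mem_top t))) (h.mem t)
    · obtain ⟨a, b, ha, hb, hao, hbo, hne⟩ := h.two_invol hR hss ht
      exact ⟨⟨a, hXL ha⟩, ⟨b, hXL hb⟩, ha, hb,
        SuzukiTI.inv2_of_orderOf (by rw [Subgroup.orderOf_mk]; exact hao),
        SuzukiTI.inv2_of_orderOf (by rw [Subgroup.orderOf_mk]; exact hbo),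
        fun e => hne (congrArg Subtype.val e)⟩
    · have ho : orderOf (u : G) = 2 := by rw [Subgroup.orderOf_coe]; exact SuzukiTI.orderOf_inv2 hu2
      have hcu : centralizer ({(u : G)} : Set G) = K t :=
        (h.cent_eq hR hnn hesc ho).trans (h.eq (IIGroups.ne_one_of_two ho) (mem_subgroupOf.1 hu))
      ext v
      rw [mem_centralizer_singleton_iff, mem_subgroupOf, ← hcu, mem_centralizer_singleton_iff,
        Subtype.ext_iff]
      rfl
    · intro w hw
      rw [mem_centralizer_singleton_iff, Subtype.ext_iff] at hw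
      exact mem_subgroupOf.2 (hLN w w.2 (h.mem_normalizer_of_commute
        (fun e => hv1 (Subtype.ext e)) (mem_subgroupOf.1 hv) (show Commute (w : G) (v : G) from hw)))
  obtain ⟨k, hk⟩ := IsPGroup.iff_orderOf.1 hH.isPGroup ⟨⟨y, hXL hy⟩, mem_subgroupOf.2 hy⟩
  rw [Subgroup.orderOf_mk, Subgroup.orderOf_mk, ← hog] at hk
  exact hp2 ((Nat.prime_dvd_prime_iff_eq hp Nat.prime_two).1 (hp.dvd_of_dvd_pow hk.dvd))

omit hR hnn hesc in
/-- Case (R): no two commuting involutions lie in different components. -/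
theorem IsNP.no_pair (hss : IIGroups.SS G)
    (hnn : ∀ x : G, x ≠ 1 → normalizer (K x : Set G) ≠ ⊤)
    (hesc : ∀ x : G, x ≠ 1 → normalizer (K x : Set G) ≠ K x)
    (hR : ∀ t u : G, orderOf t = 2 → orderOf u = 2 → Commute t u → K t = K u) :
    ∃ t : G, SuzukiTI.Hyp (K t) := by
  obtain ⟨t, -, ht⟩ := hss.exists_involution ⊤ (fun e => h.ne_top 1 (h.one.trans e.symm))
  obtain ⟨a, b, ha, hb, hao, hbo, hne⟩ := h.two_invol hR hss ht
  refine ⟨t, hnn t (IIGroups.ne_one_of_two ht), ⟨a, b, ha, hb, SuzukiTI.inv2_of_orderOf hao,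
    SuzukiTI.inv2_of_orderOf hbo, hne⟩, fun u hu hu2 => ?_,
    fun y hy hy1 => h.cent_component_le hR hnn hesc hss ht hy hy1⟩
  exact (h.cent_eq hR hnn hesc (SuzukiTI.orderOf_inv2 hu2)).trans (h.eq hu2.1 hu)

end Cfsg.Agent.Partition
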