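import Cfsg.Agent.Partition.Basic
import Cfsg.Agent.IIGroups.Cases
import Cfsg.Agent.SuzukiTI.Main

/-!
# Partitions of groups without solvable normal subgroup: commuting involutions in different
components
-/

set_option autoImplicit false
set_option linter.unusedSectionVars false

open Subgroup
open Cfsg.Agent.IIGroups (SS DConf two_of_mul_self ne_one_of_two mul_self_of_two inv_of_two)
open Cfsg.Agent.Fg24.CT (Inv2)

namespace Cfsg.Agent.Partition

universe u

variable {G : Type u} [Group G] [Finite G] {K : G → Subgroup G} (h : IsNP K)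
include h

/-- An involution normalising, from outside, a component with an involution which is not of
exponent two inverts it; the normaliser is generalised dihedral. -/
theorem IsNP.dihedral {x u v : G} (hu : orderOf u = 2) (huN : u ∈ normalizer (K x : Set G))
    (huX : u ∉ K x) (hv : orderOf v = 2) (hvX : v ∈ K x) (hne : ∃ c ∈ K x, c * c ≠ 1) :
    (∀ a ∈ K x, ∀ b ∈ K x, Commute a b) ∧
      ∀ g ∈ normalizer (K x : Set G), g ∉ K x →
        g * g = 1 ∧ g * u ∈ K x ∧ ∀ c ∈ K x, g * c * g⁻¹ = c⁻¹ := by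
  have hinv : ∀ g ∈ normalizer (K x : Set G), g ∉ K x → g * g = 1 → ∀ c ∈ K x, g * c * g⁻¹ = c⁻¹ := by
    intro g hgN hgX hgg c hc
    have h1 := h.coset_pow hgX hgN hc (n := 2) (by rw [sq, hgg])
    rw [sq] at h1
    refine eq_inv_of_mul_eq_one_right ?_
    calc c * (g * c * g⁻¹) = c * g * (c * g⁻¹) := by group
      _ = 1 := by rw [inv_eq_of_mul_eq_one_right hgg]; exact h1
  have huinv := hinv u huN huX (mul_self_of_two hu)
  have hab : ∀ a ∈ K x, ∀ b ∈ K x, Commute a b := by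
    intro a ha b hb
    have h1 := huinv _ (mul_mem ha hb)
    rw [show u * (a * b) * u⁻¹ = u * a * u⁻¹ * (u * b * u⁻¹) by group, huinv a ha, huinv b hb,
      ← mul_inv_rev] at h1
    exact (inv_injective h1).symm
  refine ⟨hab, ?_⟩
  have hcen : ∀ c, (∀ d ∈ K x, Commute c d) → c ∈ K x := by
    intro c hc
    by_contra hcX
    have hc1 : c ≠ 1 := fun e => hcX (e ▸ one_mem _)
    have ho : ∀ d ∈ K x, d ≠ 1 → orderOf c = orderOf d := fun d hd hd1 =>
      (h.order_eq (hc d hd) hc1 hd1 fun e => hcX (by rw [← h.eq hd1 hd, ← e]; exact h.mem c)).1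
    obtain ⟨d, hd, hdd⟩ := hne
    exact hdd (mul_self_of_two ((ho d hd fun e => hdd (by rw [e, one_mul])).symm.trans
      ((ho v hvX (ne_one_of_two hv)).trans hv)))
  have huv : ∀ g ∈ normalizer (K x : Set G), g ∉ K x → g * g = 1 → g * u ∈ K x := by
    intro g hgN hgX hgg
    refine hcen _ fun c hc => mul_inv_eq_iff_eq_mul.1 ?_
    calc g * u * c * (g * u)⁻¹ = g * (u * c * u⁻¹) * g⁻¹ := by group
      _ = c := by rw [huinv c hc, hinv g hgN hgX hgg _ (inv_mem hc), inv_inv]
  have hodd : ∀ g ∈ normalizer (K x : Set G), g ∉ K x → g * g ≠ 1 → Odd (orderOf g) := by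
    intro g hgN hgX hgg
    refine Nat.not_even_iff_odd.1 fun he => ?_
    set w := g ^ (orderOf g / 2)
    have hw : orderOf w = 2 := exists_pow_order (even_iff_two_dvd.1 he)
    have hw1 := ne_one_of_two hw
    have hKw : K w = K g := h.pow_eq hw1
    have hwX : w ∉ K x := fun hm => hgX (by rw [← h.eq hw1 hm, hKw]; exact h.mem g)
    have hvw : Commute v w := by
      have h1 := hinv w (pow_mem hgN _) hwX (mul_self_of_two hw) v hvX
      rw [inv_of_two hv, mul_inv_eq_iff_eq_mul] at h1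
      exact h1.symm
    have hvg : Commute g v := by
      refine commute_of_normalize (A := K g) (B := K x) (h.inf_eq_bot fun e => hgX ?_) (h.mem g) hvX
        hgN ?_
      · rw [← e]; exact h.mem g
      · rw [← hKw]; exact h.mem_normalizer_of_commute hw1 (h.mem w) hvw
    have h3 := (h.order_eq hvg (fun e => hgg (by rw [e, one_mul])) (ne_one_of_two hv)
      fun e => hgX (by rw [← h.eq (ne_one_of_two hv) hvX, ← e]; exact h.mem g)).1
    rw [hv] at h3
    exact hgg (mul_self_of_two h3)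
  intro g hgN hgX
  suffices hgg : g * g = 1 from ⟨hgg, huv g hgN hgX hgg, hinv g hgN hgX hgg⟩
  by_contra hgg
  have huu := mul_self_of_two hu
  have hguN : g * u ∈ normalizer (K x : Set G) := mul_mem hgN huN
  have hguX : g * u ∉ K x := fun hm => hgg (by
    have h1 := h.coset_pow huX huN hm (n := 2) (by rw [sq, huu])
    rwa [sq, mul_assoc g u u, huu, mul_one] at h1)
  have hgu2 : g * u * (g * u) ≠ 1 := fun e => hgX (by
    simpa [mul_assoc, huu] using huv _ hguN hguX e)
  have o1 := hodd g hgN hgX hgg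
  have o2 := hodd _ hguN hguX hgu2
  obtain ⟨m, hm⟩ := o1.mul o2
  let N := normalizer (K x : Set G)
  have hmk : ∀ c : N, (c : N ⧸ (K x).subgroupOf N) = 1 ↔ (c : G) ∈ K x := fun c => by
    rw [QuotientGroup.eq_one_iff, mem_subgroupOf]
  have hcomm : Commute ((⟨g, hgN⟩ : N) : N ⧸ (K x).subgroupOf N) ((⟨u, huN⟩ : N) : N ⧸ (K x).subgroupOf N) := by
    refine mul_inv_eq_iff_eq_mul.1 ?_
    refine mul_inv_eq_one.1 ?_
    rw [← QuotientGroup.mk_inv, ← QuotientGroup.mk_inv, ← QuotientGroup.mk_mul,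
      ← QuotientGroup.mk_mul, ← QuotientGroup.mk_mul, hmk]
    show g * u * g⁻¹ * u⁻¹ ∈ K x
    rw [inv_of_two hu]
    refine huv _ (mul_mem (mul_mem hgN huN) (inv_mem hgN))
      (fun hm' => huX (((mem_normalizer_iff.1 hgN) u).2 hm')) ?_
    rw [show g * u * g⁻¹ * (g * u * g⁻¹) = g * (u * u) * g⁻¹ by group, huu]; group
  refine huX ((hmk ⟨u, huN⟩).1 ?_)
  have h1 := hcomm.mul_pow (2 * m + 1)
  have e1 : ((⟨g, hgN⟩ : N) : N ⧸ (K x).subgroupOf N) ^ (2 * m + 1) = 1 := by
    rw [← hm, ← QuotientGroup.mk_pow, hmk, SubgroupClass.coe_pow, pow_mul, pow_orderOf_eq_one, one_pow]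
    exact one_mem _
  have e2 : (((⟨g, hgN⟩ : N) : N ⧸ (K x).subgroupOf N) * ((⟨u, huN⟩ : N) : N ⧸ (K x).subgroupOf N)) ^
      (2 * m + 1) = 1 := by
    rw [← hm, ← QuotientGroup.mk_mul, ← QuotientGroup.mk_pow, hmk, SubgroupClass.coe_pow, pow_mul']
    show ((g * u) ^ orderOf (g * u)) ^ orderOf g ∈ K x
    rw [pow_orderOf_eq_one, one_pow]; exact one_mem _
  rw [e1, e2, one_mul, pow_succ, pow_mul] at h1
  rw [h1, ← QuotientGroup.mk_pow, sq, MulMemClass.mk_mul_mk]
  simp only [huu]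
  rw [show (⟨1, one_mem N⟩ : N) = 1 from rfl, QuotientGroup.mk_one, one_pow, one_mul]

/-- Two commuting involutions in different components, one component not of exponent two:
`PSL(2, q)` or `PGL(2, q)` with `q` odd. -/
theorem IsNP.pair_case (hss : SS G) {t u : G} (ht : orderOf t = 2) (hu : orderOf u = 2)
    (hc : Commute t u) (hne : K t ≠ K u) (hexp : ∃ c ∈ K t, c * c ≠ 1) :
    ∃ (F : Type) (_ : Field F) (_ : Fintype F), Odd (Fintype.card F) ∧ 3 < Fintype.card F ∧
      (Nonempty (G ≃* Matrix.ProjectiveSpecialLinearGroup (Fin 2) F) ∨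
        Nonempty (G ≃* Matrix.ProjGenLinGroup (Fin 2) F)) := by
  haveI := Fact.mk Nat.prime_two
  obtain ⟨S, hS⟩ := (IsPGroup.of_card (n := 1) (by rw [Nat.card_zpowers, ht, pow_one]) :
    IsPGroup 2 (zpowers t)).exists_le_sylow
  have htS : t ∈ (S : Subgroup G) := hS (mem_zpowers t)
  obtain ⟨z₀, hz₀S, hz₀, hz₀c⟩ := exists_central Nat.prime_two S.2 le_rfl le_normalizer
    fun e => ne_one_of_two ht (mem_bot.1 (e ▸ htS))
  have htu : t ∈ normalizer (K u : Set G) := h.mem_normalizer_of_commute (ne_one_of_two hu) (h.mem u) hc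
  -- a central involution of a Sylow subgroup has a component which is not of exponent two
  obtain ⟨z, w, hz, hzc, hw, hzw, hwX, hXne⟩ : ∃ z w : G, orderOf z = 2 ∧
      (∀ y ∈ (S : Subgroup G), Commute y z) ∧ orderOf w = 2 ∧ Commute z w ∧ w ∉ K z ∧
      ∃ c ∈ K z, c * c ≠ 1 := by
    have hz₀1 := ne_one_of_two hz₀
    have hut : u ∉ K t := fun hm => hne (h.eq (ne_one_of_two hu) hm).symm
    by_cases hz0 : ∃ c ∈ K z₀, c * c ≠ 1
    · by_cases htz : t ∈ K z₀
      · have e := h.eq (ne_one_of_two ht) htz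
        have h1 := (h.dihedral hu (h.mem_normalizer_of_commute (ne_one_of_two ht) (h.mem t) hc.symm)
          hut ht (h.mem t) hexp).2 u
          (h.mem_normalizer_of_commute (ne_one_of_two ht) (h.mem t) hc.symm) hut
        refine ⟨z₀, u, hz₀, hz₀c, hu, ?_, e ▸ hut, hz0⟩
        have h2 := h1.2.2 z₀ (e.symm ▸ h.mem z₀)
        rw [inv_of_two hz₀, mul_inv_eq_iff_eq_mul] at h2
        exact h2.symm
      · exact ⟨z₀, t, hz₀, hz₀c, ht, (hz₀c t htS).symm, htz, hz0⟩
    · push Not at hz0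
      have hsq : ∀ g, Commute g z₀ → g * g = 1 := fun g hg => by
        by_cases hg1 : g = 1
        · rw [hg1, one_mul]
        by_cases e : K z₀ = K g
        · exact hz0 g (e ▸ h.mem g)
        · obtain ⟨e1, -⟩ := h.order_eq hg.symm hz₀1 hg1 e
          exact mul_self_of_two (e1.symm.trans hz₀)
      refine ⟨t, u, ht, fun y hy => ?_, hu, hc, hut, hexp⟩
      have hyt := hsq _ ((hz₀c y hy).mul_left (hz₀c t htS))
      calc y * t = (y * t)⁻¹ := (inv_eq_of_mul_eq_one_right hyt).symm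
        _ = t * y := by rw [mul_inv_rev, inv_of_two ht, inv_eq_of_mul_eq_one_right (hsq y (hz₀c y hy))]
  clear! t u z₀
  have hz1 := ne_one_of_two hz
  set X := K z with hX
  have hwN : w ∈ normalizer (X : Set G) := h.mem_normalizer_of_commute hz1 (h.mem z) hzw.symm
  obtain ⟨hab, -⟩ := h.dihedral hw hwN hwX hz (h.mem z) hXne
  have hCN : ∀ g, Commute g z ↔ g ∈ normalizer (X : Set G) := by
    refine fun g => ⟨fun hg => h.mem_normalizer_of_commute hz1 (h.mem z) hg, fun hg => ?_⟩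
    by_cases hgX : g ∈ X
    · exact hab g hgX z (h.mem z)
    · have h2 := ((h.dihedral hw hwN hwX hz (h.mem z) hXne).2 g hg hgX).2.2 z (h.mem z)
      rwa [inv_of_two hz, mul_inv_eq_iff_eq_mul] at h2
  have hSN : (S : Subgroup G) ≤ normalizer (X : Set G) := fun y hy => (hCN y).1 (hzc y hy)
  have hconjX : ∀ g : G, g * z * g⁻¹ ∈ X → g * z * g⁻¹ = z := fun g hg => by
    rw [((hCN g).2 (h.mem_normalizer hz1 (h.mem z) hg)).eq, mul_inv_cancel_right]
  have hzS : z ∈ (S : Subgroup G) := by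
    refine IIGroups.two_elt_mem S (IsPGroup.of_card (n := 1) (by rw [Nat.card_zpowers, hz, pow_one]))
      (mem_normalizer_fintype fun y hy => ?_)
    rw [SetLike.mem_coe] at hy ⊢
    rwa [← (hzc y hy).eq, mul_inv_cancel_right]
  obtain ⟨g₀, hg₀S, hg₀⟩ := hss.exists_conj S hz hzS
  set s := g₀ * z * g₀⁻¹ with hs_def
  have hsX : s ∉ X := fun hm => hg₀ (hconjX g₀ hm)
  have hs : orderOf s = 2 := (Invol.orderOf_conj g₀ z).trans hz
  obtain ⟨-, hout⟩ := h.dihedral hs (hSN hg₀S) hsX hz (h.mem z) hXne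
  have huniq : ∀ k ∈ X, k * k = 1 → k = 1 ∨ k = z := by
    intro k hk hkk
    by_contra! hne
    have hksc : Commute k s := by
      have h1 := (hout s (hSN hg₀S) hsX).2.2 k hk
      rw [inv_eq_of_mul_eq_one_right hkk, mul_inv_eq_iff_eq_mul] at h1
      exact h1.symm
    have hs1 := ne_one_of_two hs
    have hzY : z ∉ K s := fun hm => hsX (by
      have := h.eq hz1 hm
      rw [hX, this]; exact h.mem s)
    have hYne : ∃ c ∈ K s, c * c ≠ 1 := by
      obtain ⟨c, hcX, hcc⟩ := hXne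
      refine ⟨g₀ * c * g₀⁻¹, h.conj_mem_iff.2 hcX, fun e => hcc ?_⟩
      calc c * c = g₀⁻¹ * (g₀ * c * g₀⁻¹ * (g₀ * c * g₀⁻¹)) * g₀ := by group
        _ = 1 := by rw [e]; group
    have hkY : k ∉ K s := fun hm => hsX (by
      have e1 := h.eq hne.1 hm
      rw [hX, ← h.eq hne.1 hk, e1]; exact h.mem s)
    have h1 := ((h.dihedral hz (h.mem_normalizer_of_commute hs1 (h.mem s) (hzc s hg₀S).symm) hzY hs
      (h.mem s) hYne).2 k (h.mem_normalizer_of_commute hs1 (h.mem s) hksc) hkY).2.1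
    have h2 : k * z = 1 := mem_bot.1 ((h.inf_eq_bot fun e => hsX (by
      rw [hX, e]; exact h.mem s)) ▸ (⟨mul_mem hk (h.mem z), h1⟩ : k * z ∈ X ⊓ K s))
    exact hne.2 (by rw [← inv_of_two hz]; exact eq_inv_of_mul_eq_one_left h2)
  have D : DConf S X z s := by
    refine ⟨hz, hs, h.mem z, hsX, hg₀S, hab, fun x hx => hab x hx z (h.mem z), hzc,
      fun x hx hxX => ?_, fun x hx hxX => (hout x ((hCN x).1 hx) hxX).2.1, huniq, fun g hg => ?_⟩
    · exact ⟨(hout x ((hCN x).1 hx) hxX).1, (hout x ((hCN x).1 hx) hxX).2.2⟩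
    · rw [Subgroup.eq_bot_iff_forall]
      rintro y ⟨hy, hy'⟩
      replace hy' : y ∈ K (g * z * g⁻¹) := h.conj_component.1 hy'
      by_contra hy1
      refine hg ((hCN g).2 (h.mem_normalizer hz1 (h.mem z) ?_))
      rw [h.eq_of_mem hy1 hy hy']; exact h.mem _
  refine D.concl' hss fun v x y hv hxv hyv hxo hyo => ?_
  have hv1 := ne_one_of_two hv
  have hmem : ∀ a, Commute a v → Odd (orderOf a) → a ∈ K v := fun a ha hao => by
    by_cases ha1 : a = 1
    · exact ha1 ▸ one_mem _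
    refine h.mem_of_commute ha.symm hv1 ha1 fun e => ?_
    rw [hv] at e; rw [← e] at hao; exact absurd hao (by decide)
  by_cases hvexp : ∃ c ∈ K v, c * c ≠ 1
  swap
  · push Not at hvexp
    by_cases hx1 : x = 1
    · rw [hx1]; exact Commute.one_left y
    · exact absurd (two_of_mul_self (hvexp x (hmem x hxv hxo)) hx1)
        fun e => absurd (e ▸ hxo) (by decide)
  obtain ⟨P, hP⟩ := (IsPGroup.of_card (n := 1) (by rw [Nat.card_zpowers, hv, pow_one]) :
    IsPGroup 2 (zpowers v)).exists_le_sylow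
  obtain ⟨g, hg⟩ := MulAction.exists_smul_eq G S P
  rw [← hg] at hP
  have hv'S : g⁻¹ * v * g ∈ (S : Subgroup G) := IIGroups.mem_smul_iff.1 (hP (mem_zpowers v))
  have hv'c := hzc _ hv'S
  have e : g⁻¹ * v * g = g⁻¹ * v * g⁻¹⁻¹ := by group
  have hv' : orderOf (g⁻¹ * v * g) = 2 := by rw [e, Invol.orderOf_conj, hv]
  have hKab : ∀ a ∈ K (g⁻¹ * v * g), ∀ b ∈ K (g⁻¹ * v * g), Commute a b := by
    have hv'1 := ne_one_of_two hv'
    by_cases hzv : z ∈ K (g⁻¹ * v * g)
    · rw [← h.eq hz1 hzv]; exact hab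
    · refine (h.dihedral hz (h.mem_normalizer_of_commute hv'1 (h.mem _) hv'c.symm) hzv hv' (h.mem _)
        ?_).1
      obtain ⟨c, hcv, hcc⟩ := hvexp
      refine ⟨g⁻¹ * c * g⁻¹⁻¹, e ▸ h.conj_mem_iff.2 hcv, fun e1 => hcc ?_⟩
      calc c * c = g * (g⁻¹ * c * g⁻¹⁻¹ * (g⁻¹ * c * g⁻¹⁻¹)) * g⁻¹ := by group
        _ = 1 := by rw [e1]; group
  have h1 := hKab (g⁻¹ * x * g⁻¹⁻¹) (e ▸ h.conj_mem_iff.2 (hmem x hxv hxo))
    (g⁻¹ * y * g⁻¹⁻¹) (e ▸ h.conj_mem_iff.2 (hmem y hyv hyo))
  exact (Commute.conj_iff _).1 h1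

/-- Commuting involutions in different components, all such components of exponent two:
`SL(2, 2ⁿ)`. -/
theorem IsNP.exp_two_case (hss : SS G) (hall : ∀ t u : G, orderOf t = 2 → orderOf u = 2 →
      Commute t u → K t ≠ K u → ∀ c ∈ K t, c * c = 1)
    {v u : G} (hv : orderOf v = 2) (hu : orderOf u = 2) (hc : Commute v u) (hne : K v ≠ K u) :
    ∃ (F : Type) (_ : Field F) (_ : Fintype F), CharP F 2 ∧ 4 ≤ Fintype.card F ∧
      Nonempty (G ≃* Matrix.SpecialLinearGroup (Fin 2) F) ∧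
      Nonempty (G ≃* Matrix.ProjectiveSpecialLinearGroup (Fin 2) F) := by
  have hsq : ∀ {t : G}, orderOf t = 2 → (∀ c ∈ K t, c * c = 1) → ∀ g, Commute g t → g * g = 1 := by
    intro t ht hexp g hg
    by_cases hg1 : g = 1
    · rw [hg1, one_mul]
    by_cases e : K t = K g
    · exact hexp g (e ▸ h.mem g)
    · exact mul_self_of_two ((h.order_eq hg.symm (ne_one_of_two ht) hg1 e).1.symm.trans ht)
  have hcom : ∀ {t : G}, orderOf t = 2 → (∀ c ∈ K t, c * c = 1) → ∀ a b, Commute a t → Commute b t →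
      Commute a b := by
    intro t ht hexp a b ha hb
    calc a * b = (a * b)⁻¹ := (inv_eq_of_mul_eq_one_right (hsq ht hexp _ (ha.mul_left hb))).symm
      _ = b * a := by
        rw [mul_inv_rev, inv_eq_of_mul_eq_one_right (hsq ht hexp a ha),
          inv_eq_of_mul_eq_one_right (hsq ht hexp b hb)]
  have hvx := hall v u hv hu hc hne
  have hC : ∀ a b, a ∈ centralizer ({v} : Set G) → b ∈ centralizer ({v} : Set G) → Commute a b :=
    fun a b ha hb => hcom hv hvx a b (mem_centralizer_singleton_iff.1 ha)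
      (mem_centralizer_singleton_iff.1 hb)
  have hcent : ∀ t ∈ centralizer ({v} : Set G), t ≠ 1 →
      centralizer ({t} : Set G) = centralizer ({v} : Set G) := by
    intro t ht ht1
    have htv : Commute t v := mem_centralizer_singleton_iff.1 ht
    have ht2 := two_of_mul_self (hsq hv hvx t htv) ht1
    have htexp : ∀ c ∈ K t, c * c = 1 := by
      by_cases e : K t = K v
      · exact hall t u ht2 hu (hcom hv hvx t u htv hc.symm) (e ▸ hne)
      · exact hall t v ht2 hv htv e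
    refine le_antisymm (fun g hg => mem_centralizer_singleton_iff.2
      (hcom ht2 htexp g v (mem_centralizer_singleton_iff.1 hg) htv.symm).eq) fun g hg => ?_
    exact mem_centralizer_singleton_iff.2 (hC g t hg ht).eq
  refine (SuzukiTI.Hyp.psl (K := centralizer ({v} : Set G)) ⟨fun e => ?_,
    ⟨v, u, mem_centralizer_singleton_iff.2 rfl, mem_centralizer_singleton_iff.2 hc.symm.eq,
      SuzukiTI.inv2_of_orderOf hv, SuzukiTI.inv2_of_orderOf hu, fun e => hne (e ▸ rfl)⟩,
    fun t ht ht2 => hcent t ht ht2.1, fun y hy hy1 => (hcent y hy hy1).le⟩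
    fun x hx y hy => (hC x y hx hy).eq)
  have hn : (centralizer ({v} : Set G)).Normal := normalizer_eq_top_iff.1 e
  haveI : Group.IsSolvable (centralizer ({v} : Set G)) :=
    Group.isSolvable_of_comm fun a b => Subtype.ext (hC a b a.2 b.2).eq
  have h1 := hss _ hn inferInstance
  exact ne_one_of_two hv (mem_bot.1 (h1 ▸ mem_centralizer_singleton_iff.2 rfl))

end Cfsg.Agent.Partition
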