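import Cfsg.Agent.Partition.Normal
import Cfsg.Agent.S1012

/-!
# Partitions without normal component, with a solvable normal subgroup
-/

set_option autoImplicit false
set_option linter.unusedSectionVars false

open Subgroup

namespace Cfsg.Agent.Partition

universe u

variable {G : Type u} [Group G] [Finite G]

theorem card_mulAut_four_le {A : Type u} [Group A] [Finite A] (h : Nat.card A = 4) :
    ∃ f : MulAut A →* Equiv.Perm {a : A // a ≠ 1}, Function.Injective f ∧
      Nat.card (Equiv.Perm {a : A // a ≠ 1}) = 6 := by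
  classical
  refine ⟨{
    toFun := fun e => (MulAut.toPerm A e).subtypePerm fun a => (e.map_ne_one_iff (x := a))
    map_one' := by ext a; rfl
    map_mul' := fun e e' => by ext a; rfl }, fun e e' he => MulEquiv.ext fun a => ?_, ?_⟩
  · by_cases ha : a = 1
    · rw [ha, map_one, map_one]
    · exact congrArg Subtype.val (Equiv.ext_iff.1 he ⟨a, ha⟩)
  · have h1 : Nat.card {a : A // a ≠ 1} + 1 = Nat.card A := by
      rw [← Finite.card_option]; exact Nat.card_congr (Equiv.optionSubtypeNe 1)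
    rw [Nat.card_perm, show Nat.card {a : A // a ≠ 1} = 3 by omega]
    rfl

variable {K : G → Subgroup G} (h : IsNP K) (hnn : ∀ x : G, x ≠ 1 → normalizer (K x : Set G) ≠ ⊤)
include h hnn

theorem IsNP.not_forall_commute {z : G} (hz : z ≠ 1) : ¬ ∀ g : G, Commute g z := fun hc =>
  hnn z hz (top_le_iff.1 fun g _ => h.mem_normalizer_of_commute hz (h.mem z) (hc g))

theorem IsNP.not_normal_le {A : Subgroup G} [hA : A.Normal] (hne : A ≠ ⊥) {x : G} (hx : x ≠ 1) :
    ¬ A ≤ K x := fun hle => by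
  obtain ⟨a, ha, ha1⟩ := A.bot_or_exists_ne_one.resolve_left hne
  exact hnn x hx (top_le_iff.1 fun g _ => h.mem_normalizer ha1 (hle ha) (hle (hA.conj_mem a ha g)))

/-- A component meeting an elementary abelian normal `r`-subgroup is an `r`-group normalised by
it. -/
theorem IsNP.meet {r : ℕ} (hr : r.Prime) {A : Subgroup G} [hA : A.Normal]
    (hAc : ∀ a ∈ A, ∀ b ∈ A, Commute a b) (hAr : ∀ a ∈ A, a ^ r = 1) {x b : G} (hx : x ≠ 1)
    (hbA : b ∈ A) (hbX : b ∈ K x) (hb : b ≠ 1) :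
    IsPGroup r (K x) ∧ A ≤ normalizer (K x : Set G) := by
  have := Fact.mk hr
  have hAne : A ≠ ⊥ := fun e => hb (mem_bot.1 (e ▸ hbA))
  have hAN : A ≤ normalizer (K x : Set G) := fun a ha =>
    h.mem_normalizer_of_commute hb hbX (hAc a ha b hbA)
  refine ⟨?_, hAN⟩
  obtain ⟨a, ha, haX⟩ := SetLike.not_le_iff_exists.1 (h.not_normal_le hnn hAne hx)
  have hnil : Group.IsNilpotent (K x) := h.isNilpotent_component fun e => haX (e ▸ hAN ha)
  refine IsPGroup.iff_card.mpr ⟨(Nat.card (K x)).primeFactorsList.length,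
    Nat.eq_prime_pow_of_unique_prime_dvd Nat.card_pos.ne' fun {s} hs hsd => ?_⟩
  by_contra hsr
  obtain ⟨w, ⟨hwX, -, hwc⟩, hwo⟩ := exists_center_prime hnil hs hsd
  have hw1 : w ≠ 1 := fun e => hs.one_lt.ne (by rw [← hwo, e, orderOf_one])
  have hcX : a * w * a⁻¹ * w⁻¹ ∈ K x :=
    mul_mem ((mem_normalizer_iff.1 (hAN ha) w).1 hwX) (inv_mem hwX)
  have hcA : a * w * a⁻¹ * w⁻¹ ∈ A := by
    rw [show a * w * a⁻¹ * w⁻¹ = a * (w * a⁻¹ * w⁻¹) by group]
    exact mul_mem ha (hA.conj_mem _ (inv_mem ha) w)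
  set c := a * w * a⁻¹ * w⁻¹ with hc
  have hcs : c ^ s = 1 := by
    have h1 : (c * w) ^ s = 1 := by
      rw [hc, show a * w * a⁻¹ * w⁻¹ * w = a * w * a⁻¹ by group, conj_pow, ← hwo,
        pow_orderOf_eq_one]
      group
    rwa [(hwc c hcX).mul_pow, ← hwo, pow_orderOf_eq_one, mul_one, hwo] at h1
  have hc1 : c = 1 := orderOf_eq_one_iff.1 (Nat.eq_one_of_dvd_coprimes
    ((Nat.coprime_primes hr hs).2 (Ne.symm hsr)) (orderOf_dvd_of_pow_eq_one (hAr c hcA))
    (orderOf_dvd_of_pow_eq_one hcs))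
  have haw : Commute a w := mul_inv_eq_iff_eq_mul.1 (mul_inv_eq_one.1 (hc ▸ hc1))
  have := (h.order_eq haw (fun e => haX (e ▸ one_mem _)) hw1 (h.ne_comp haX hwX hw1)).1
  rw [hwo, orderOf_eq_prime (hAr a ha) (fun e => haX (e ▸ one_mem _))] at this
  exact hsr this.symm

/-- A nontrivial solvable normal subgroup: a Frobenius group or the symmetric group of degree 4. -/
theorem IsNP.solvable_case {N : Subgroup G} [N.Normal] (hN1 : N ≠ ⊥) (hNs : Group.IsSolvable N) :
    Nonempty (G ≃* Equiv.Perm (Fin 4)) ∨ ∃ H : Subgroup G, Cfsg.IsFrobeniusComplement H := by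
  classical
  haveI : Nontrivial N := nontrivial_iff_ne_bot N |>.2 hN1
  obtain ⟨r, hr, Q, hQn, hQr, hQne⟩ := Coprime.exists_normal_isPGroup (G := N)
  have := Fact.mk hr
  have hQ0 : Cfsg.pCore r N ≠ ⊥ := fun e => hQne (le_bot_iff.1 (e ▸ Core.le_pCore hQr))
  set P := Cfsg.pCore r G with hPdef
  have hP : IsPGroup r P := Core.pCore_isPGroup
  have hPne : P ≠ ⊥ := fun e => by
    haveI : ((Cfsg.pCore r N).map N.subtype).Normal := by
      haveI : (Cfsg.pCore r N).Characteristic := characteristic_iff_map_eq.2 fun φ => Core.map_pCore φ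
      infer_instance
    have h1 : (Cfsg.pCore r N).map N.subtype ≤ P := Core.le_pCore (Core.pCore_isPGroup.map _)
    rw [e, le_bot_iff, map_eq_bot_iff_of_injective _ N.subtype_injective] at h1
    exact hQ0 h1
  set A := omegaCenter r P
  obtain ⟨a₀, -, ha₀, ha₀1⟩ := exists_omegaCenter hr hP le_rfl le_normalizer hPne
  have hAne : A ≠ ⊥ := fun e => ha₀1 (mem_bot.1 (e ▸ ha₀))
  have hAP : A ≤ P := fun a ha => ha.1
  have hAc : ∀ a ∈ A, ∀ b ∈ A, Commute a b := fun a ha b hb => hb.2.2 a ha.1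
  have hAr : ∀ a ∈ A, a ^ r = 1 := fun a ha => ha.2.1
  have hdA : r ∣ Nat.card A :=
    (orderOf_eq_prime ha₀.2.1 ha₀1).symm.dvd.trans (Subgroup.orderOf_dvd_natCard _ ha₀)
  have hnorm : ∀ g : G, g ∈ normalizer (A : Set G) := fun g =>
    normalizer_eq_top_iff.2 (omegaCenter_normal r P) ▸ mem_top g
  have hmeet : ∀ {x b : G}, x ≠ 1 → b ∈ A → b ∈ K x → b ≠ 1 →
      IsPGroup r (K x) ∧ A ≤ normalizer (K x : Set G) := fun hx hb hbx hb1 =>
    h.meet hnn hr hAc hAr hx hb hbx hb1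
  have hPtop : P ≠ ⊤ := fun e => by
    obtain ⟨z, -, hzo, hzc⟩ := exists_central hr hP le_rfl le_normalizer hPne
    exact h.not_forall_commute hnn (fun e1 => hr.one_lt.ne (by rw [← hzo, e1, orderOf_one]))
      fun g => hzc g (e ▸ mem_top g)
  have M : Mix r G := by
    intro x hx
    have hx1 : x ≠ 1 := fun e => hr.one_lt.ne (by rw [← hx, e, orderOf_one])
    refine IsPGroup.iff_orderOf.mpr fun u => ⟨_, Nat.eq_prime_pow_of_unique_prime_dvd
      (orderOf_pos u).ne' fun {q} hq hqd => ?_⟩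
    by_contra hqr
    rw [← Subgroup.orderOf_coe] at hqd
    set v := (u : G) ^ (orderOf (u : G) / q)
    have hvo : orderOf v = q := exists_pow_order hqd
    have hv1 : v ≠ 1 := fun e => hq.one_lt.ne (by rw [← hvo, e, orderOf_one])
    have hxv : Commute x v :=
      (show Commute x (u : G) from (mem_centralizer_singleton_iff.1 u.2).symm).pow_right _
    have hvx : v ∈ K x := h.mem_of_commute hxv hx1 hv1 (by rw [hx, hvo]; exact Ne.symm hqr)
    by_cases hmt : ∃ b ∈ A, b ∈ K x ∧ b ≠ 1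
    · obtain ⟨b, hb, hbx, hb1⟩ := hmt
      obtain ⟨j, hj⟩ := IsPGroup.iff_orderOf.1 (hmeet hx1 hb hbx hb1).1 ⟨v, hvx⟩
      rw [Subgroup.orderOf_mk, hvo] at hj
      exact hqr ((Nat.prime_dvd_prime_iff_eq hq hr).1 (hq.dvd_of_dvd_pow hj.dvd))
    push Not at hmt
    obtain ⟨a, ha, ha1, hca⟩ := exists_fixed A (hnorm x) (n := 1) hr
      (by rw [pow_one, ← hx, pow_orderOf_eq_one]) hdA
    have haN := h.mem_normalizer_of_commute hx1 (h.mem x) hca
    have hc : a * v * a⁻¹ * v⁻¹ = 1 := hmt _ (by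
        rw [show a * v * a⁻¹ * v⁻¹ = a * (v * a⁻¹ * v⁻¹) by group]
        exact mul_mem ha ((omegaCenter_normal r P).conj_mem _ (inv_mem ha) v))
      (mul_mem ((mem_normalizer_iff.1 haN v).1 hvx) (inv_mem hvx))
    have hav : Commute a v := mul_inv_eq_iff_eq_mul.1 (mul_inv_eq_one.1 hc)
    have := (h.order_eq hav ha1 hv1 fun e => ha1 (hmt a ha (by
      rw [← h.eq hv1 hvx, ← e]; exact h.mem a))).1
    rw [hvo, orderOf_eq_prime (hAr a ha) ha1] at this
    exact hqr this.symm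
  by_cases hd : r ∣ P.index
  swap
  · exact Or.inr (M.frobenius hr hP hPne hPtop hd)
  left
  -- elements of order `> r` outside the core
  have hbig : ∀ x : G, x ^ r ≠ 1 → (∃ k : ℕ, x ^ r ^ k = 1) →
      A ≤ normalizer (K x : Set G) ∧ ∃ a ∈ A, a ∉ K x := by
    rintro x hxr ⟨k, hk⟩
    have hx1 : x ≠ 1 := fun e => hxr (by rw [e, one_pow])
    obtain ⟨a, ha, ha1, hca⟩ := exists_fixed A (hnorm x) hr hk hdA
    have hax : a ∈ K x := h.mem_of_commute_not_prime hca.symm hx1 fun hp => hxr (by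
      rw [← (Nat.prime_dvd_prime_iff_eq hp hr).1 (hp.dvd_of_dvd_pow
        (orderOf_dvd_of_pow_eq_one hk)), pow_orderOf_eq_one])
    exact ⟨(hmeet hx1 ha hax ha1).2,
      SetLike.not_le_iff_exists.1 (h.not_normal_le hnn hAne hx1)⟩
  by_cases hr2 : r = 2
  swap
  · exfalso
    refine M.not_dvd_index_of_odd hr hr2 hPne (fun x _ hk => ?_) hd
    by_contra hxr
    obtain ⟨hAN, b, hb, hbX⟩ := hbig x hxr hk
    have hW : ∀ i : ℕ, (∀ a ∈ A, (x * a) ^ i * (x ^ i)⁻¹ ∈ A) ∧ ∀ a ∈ A, ∀ a' ∈ A,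
        (x * (a * a')) ^ i * (x ^ i)⁻¹ = (x * a) ^ i * (x ^ i)⁻¹ * ((x * a') ^ i * (x ^ i)⁻¹) := by
      intro i
      induction i with
      | zero => simp
      | succ i ih =>
        have e : ∀ a : G, (x * a) ^ (i + 1) * (x ^ (i + 1))⁻¹ =
            (x * a) ^ i * (x ^ i)⁻¹ * (x ^ (i + 1) * a * (x ^ (i + 1))⁻¹) := fun a => by
          rw [pow_succ, pow_succ]; group
        have hcj : ∀ a ∈ A, x ^ (i + 1) * a * (x ^ (i + 1))⁻¹ ∈ A := fun a ha =>
          (omegaCenter_normal r P).conj_mem a ha _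
        refine ⟨fun a ha => e a ▸ mul_mem (ih.1 a ha) (hcj a ha), fun a ha a' ha' => ?_⟩
        rw [e, e, e, ih.2 a ha a' ha', show x ^ (i + 1) * (a * a') * (x ^ (i + 1))⁻¹
          = x ^ (i + 1) * a * (x ^ (i + 1))⁻¹ * (x ^ (i + 1) * a' * (x ^ (i + 1))⁻¹) by group]
        exact (hAc _ (ih.1 a' ha') _ (hcj a ha)).mul_mul_mul_comm _ _
    have hout : ∀ a ∈ A, a ∉ K x → (x * a) ^ r = 1 := fun a ha haX =>
      h.coset_pow haX (hAN ha) (h.mem x) (hAr a ha)
    have hb2 : b * b ∉ K x := fun hm => by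
      have h1 := orderOf_dvd_of_pow_eq_one (sq b ▸ h.sq_eq_one hbX hm : b ^ 2 = 1)
      rw [orderOf_eq_prime (hAr b hb) fun e => hbX (e ▸ one_mem _)] at h1
      exact hr2 ((Nat.prime_dvd_prime_iff_eq hr Nat.prime_two).1 h1)
    have h1 := (hW r).2 b hb b hb
    rw [hout _ (mul_mem hb hb) hb2, hout b hb hbX, one_mul, left_eq_mul, inv_eq_one] at h1
    exact hxr h1
  subst hr2
  have hA2 : ∀ a ∈ A, a * a = 1 := fun a ha => by rw [← sq]; exact hAr a ha
  have h4 : Nat.card A ≤ 4 := by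
    refine M.card_le_four hAP hAne hd hA2 fun y hy hk _ => ?_
    obtain ⟨hAN, a₁, ha₁, ha₁X⟩ := hbig y (by rwa [sq]) hk
    have hpair : ∀ b ∈ A, b ∉ K y → ∀ b' ∈ A, b' ∉ K y → Commute y (b * b') := by
      have key : ∀ b ∈ A, b ∉ K y → y * b * y⁻¹ = b * (y * y)⁻¹ := fun b hb hbX => by
        have h1 : (y * b) * (y * b) = 1 := by
          rw [← sq]; exact h.coset_pow hbX (hAN hb) (h.mem y) (hAr b hb)
        calc y * b * y⁻¹ = (y * b)⁻¹ * y⁻¹ := by rw [inv_eq_of_mul_eq_one_right h1]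
          _ = b⁻¹ * (y * y)⁻¹ := by group
          _ = _ := by rw [inv_eq_of_mul_eq_one_right (hA2 b hb)]
      intro b hb hbX b' hb' hb'X
      refine mul_inv_eq_iff_eq_mul.1 (?_ : y * (b * b') * y⁻¹ = b * b')
      have hm : (y * y)⁻¹ ∈ A := by
        have := mul_mem (inv_mem hb) ((omegaCenter_normal 2 P).conj_mem b hb y)
        rwa [key b hb hbX, inv_mul_cancel_left] at this
      calc y * (b * b') * y⁻¹ = y * b * y⁻¹ * (y * b' * y⁻¹) := by group
        _ = b * ((y * y)⁻¹ * b') * (y * y)⁻¹ := by rw [key b hb hbX, key b' hb' hb'X]; group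
        _ = b * b' * ((y * y)⁻¹ * (y * y)⁻¹) := by rw [(hAc _ hm b' hb').eq]; group
        _ = b * b' := by rw [hA2 _ hm, mul_one]
    set C := A ⊓ centralizer ({y} : Set G)
    have hoth : ∀ b ∈ A, ¬ Commute y b → b * a₁ ∈ C := fun b hb hbc => by
      refine ⟨mul_mem hb ha₁, mem_centralizer_singleton_iff.2 (hpair b hb (fun hbX => hbc ?_)
        a₁ ha₁ ha₁X).eq.symm⟩
      have h1 := hpair (b * a₁) (mul_mem hb ha₁) (fun hm => ha₁X (by
        simpa using mul_mem (inv_mem hbX) hm)) a₁ ha₁ ha₁X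
      rwa [mul_assoc, hA2 a₁ ha₁, mul_one] at h1
    let f : A → C × Bool := fun b => if hc : Commute y (b : G) then
        (⟨b, b.2, mem_centralizer_singleton_iff.2 hc.eq.symm⟩, true)
      else (⟨b * a₁, hoth b b.2 hc⟩, false)
    have hf : Function.Injective f := fun b b' e => by
      simp only [f] at e
      split_ifs at e with h1 h2 h2 <;> simp only [Prod.mk.injEq, Subtype.ext_iff] at e
      · exact Subtype.ext e.1
      · exact absurd e.2 (by decide)
      · exact absurd e.2 (by decide)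
      · exact Subtype.ext (mul_right_cancel e.1)
    have := Nat.card_le_card_of_injective f hf
    rw [Nat.card_prod, show Nat.card Bool = 2 by simp] at this
    linarith
  have hA4 : Nat.card A = 4 := by
    obtain ⟨j, hj⟩ := IsPGroup.iff_card.1 (hP.to_le hAP)
    rcases j with _ | _ | _ | j
    · exact absurd (card_eq_one.1 hj) hAne
    · exfalso
      refine h.not_forall_commute hnn ha₀1 fun g => mul_inv_eq_iff_eq_mul.1 ?_
      have h1 := (omegaCenter_normal 2 P).conj_mem a₀ ha₀ g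
      obtain ⟨v, hv⟩ := (Nat.card_eq_two_iff' (1 : A)).1 hj
      have e1 := hv.2 ⟨_, h1⟩ fun e => ha₀1 (conj_eq_one_iff.1 (congrArg Subtype.val e))
      have e2 := hv.2 ⟨a₀, ha₀⟩ fun e => ha₀1 (congrArg Subtype.val e)
      exact congrArg Subtype.val (e1.trans e2.symm)
    · exact hj
    · exfalso
      rw [hj] at h4
      have : 2 ^ 3 ≤ 2 ^ (j + 1 + 1 + 1) := Nat.pow_le_pow_right (by norm_num) (by omega)
      omega
  have hexp : ∀ p ∈ P, p * p = 1 := by
    intro p hp
    by_contra hpp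
    obtain ⟨k, hk⟩ := hP ⟨p, hp⟩
    have hk' : p ^ 2 ^ k = 1 := congrArg Subtype.val hk
    have hp1 : p ≠ 1 := fun e => hpp (by rw [e, one_mul])
    refine h.not_normal_le hnn hAne hp1 fun a ha =>
      h.mem_of_commute_not_prime (ha.2.2 p hp) hp1 fun hpr => hpp ?_
    rw [← sq, ← (Nat.prime_dvd_prime_iff_eq hpr Nat.prime_two).1 (hpr.dvd_of_dvd_pow
        (orderOf_dvd_of_pow_eq_one hk')), pow_orderOf_eq_one]
  have hPA : P = A := le_antisymm (fun p hp => ⟨hp, by rw [sq, hexp p hp], fun q hq => by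
    calc q * p = (q * p)⁻¹ := (inv_eq_of_mul_eq_one_right (hexp _ (mul_mem hq hp))).symm
      _ = p * q := by
        rw [mul_inv_rev, inv_eq_of_mul_eq_one_right (hexp q hq),
          inv_eq_of_mul_eq_one_right (hexp p hp)]⟩) hAP
  have hAL : P ≤ centralizer (A : Set G) := fun y hy =>
    mem_centralizer_iff.2 fun a ha => (ha.2.2 y hy).eq.symm
  have hinj : Function.Injective (act A P hAL) := by
    rw [injective_iff_map_eq_one]
    intro q hq
    obtain ⟨g, rfl⟩ := QuotientGroup.mk_surjective q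
    refine (QuotientGroup.eq_one_iff g).2 (M.centralizer_le Nat.prime_two (hP.to_le hAP) hAne
      (mem_centralizer_iff.2 fun a ha => ?_))
    have h1 := act_mk hAL g ⟨a, ha⟩
    rw [hq] at h1
    exact (mul_inv_eq_iff_eq_mul.1 h1.symm).symm
  obtain ⟨f, hf, h6⟩ := card_mulAut_four_le hA4
  have hdvd : P.index ∣ 6 := h6 ▸ card_dvd_of_injective (f.comp (act A P hAL)) (hf.comp hinj)
  have hcard : Nat.card G = 4 * P.index := by rw [← P.card_mul_index, hPA, hA4]
  have hne2 : P.index ≠ 2 := fun e => hPtop (Core.pCore_eq_top (IsPGroup.of_card (n := 3)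
    (by rw [hcard, e]; rfl)))
  refine S1012.result (by
    have := Nat.le_of_dvd (by norm_num) hdvd
    interval_cases P.index <;> omega) fun g hg => ?_
  exact M.eq_one' Nat.prime_two Nat.prime_three (by norm_num)
    (exists_pow_order (g := g) (by rw [hg]; norm_num)) (exists_pow_order (g := g) (by rw [hg]; norm_num))
    ((Commute.refl g).pow_pow _ _)

end Cfsg.Agent.Partition
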