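import Cfsg.Agent.Partition.Normal
import Cfsg.Agent.Partition.Solvable
import Cfsg.Agent.Partition.Semisimple
import Cfsg.Agent.Partition.NoPair
import Cfsg.Agent.SuzukiUniq.TI
import Cfsg.Prelude.Def_Sz

/-!
# Groups with a nontrivial partition
-/

set_option autoImplicit false

open Subgroup
open scoped Pointwise

namespace Cfsg.Agent.Partition

universe u

variable {G : Type u} [Group G] [Finite G]

/-- A nontrivial partition gives one invariant under conjugation. -/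
theorem exists_isNP (S : Set (Subgroup G)) (hS2 : ∃ H ∈ S, ∃ K ∈ S, H ≠ K)
    (hS1 : ∀ H ∈ S, H ≠ ⊥) (hpart : ∀ g : G, g ≠ 1 → ∃! H : Subgroup G, H ∈ S ∧ g ∈ H) :
    ∃ K : G → Subgroup G, IsNP K := by
  classical
  let comp : G → Subgroup G := fun g => if hg : g = 1 then ⊥ else (hpart g hg).choose
  have hcomp : ∀ g, g ≠ 1 → comp g ∈ S ∧ g ∈ comp g ∧ ∀ H ∈ S, g ∈ H → H = comp g := fun g hg => by
    simp only [comp, dif_neg hg]
    exact ⟨(hpart g hg).choose_spec.1.1, (hpart g hg).choose_spec.1.2,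
      fun H hH hgH => (hpart g hg).choose_spec.2 H ⟨hH, hgH⟩⟩
  have hmem : ∀ g, g ∈ comp g := fun g => by
    by_cases hg : g = 1
    · exact hg ▸ one_mem _
    · exact (hcomp g hg).2.1
  have heq : ∀ x y, x ≠ 1 → x ∈ comp y → comp x = comp y := fun x y hx hxy => by
    by_cases hy : y = 1
    · simp only [comp, dif_pos hy, mem_bot] at hxy
      exact absurd hxy hx
    · exact ((hcomp x hx).2.2 _ (hcomp y hy).1 hxy).symm
  let K : G → Subgroup G := fun g =>
    if g = 1 then ⊥ else ⨅ c : G, (comp (c⁻¹ * g * c)).comap (MulAut.conj c⁻¹).toMonoidHom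
  have hK : ∀ {g y : G}, g ≠ 1 → (y ∈ K g ↔ ∀ c, c⁻¹ * y * c ∈ comp (c⁻¹ * g * c)) := by
    intro g y hg
    simp [K, if_neg hg, mem_iInf]
  have hK1 : K 1 = ⊥ := if_pos rfl
  have hne : ∀ {c g : G}, g ≠ 1 → c⁻¹ * g * c ≠ 1 := fun {c g} hg e => hg (by
    calc g = c * (c⁻¹ * g * c) * c⁻¹ := by group
      _ = 1 := by rw [e]; group)
  refine ⟨K, ⟨fun g => ?_, hK1, fun {x y} hx hxy => ?_, fun {c x y} => ?_, fun x => ?_⟩⟩
  · by_cases hg : g = 1
    · exact hg ▸ one_mem _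
    · exact (hK hg).2 fun c => hmem _
  · have hy : y ≠ 1 := fun e => hx (by rw [e, hK1, mem_bot] at hxy; exact hxy)
    ext z
    rw [hK hx, hK hy]
    refine forall_congr' fun c => ?_
    rw [heq _ _ (hne hx) ((hK hy).1 hxy c)]
  · by_cases hx : x = 1
    · simp only [hx, mul_one, mul_inv_cancel, hK1, mem_bot]
      exact ⟨fun e => by rw [e]; group, fun e => by
        calc y = c * (c⁻¹ * y * c) * c⁻¹ := by group
          _ = 1 := by rw [e]; group⟩
    rw [hK (fun e => hx (conj_eq_one_iff.1 e)), hK hx]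
    refine ⟨fun hall d => ?_, fun hall d => ?_⟩
    · have := hall (c * d)
      simpa [mul_assoc] using this
    · have := hall (c⁻¹ * d)
      simpa [mul_assoc] using this
  · by_cases hx : x = 1
    · rw [hx, hK1]
      obtain ⟨H, hH, -⟩ := hS2
      exact fun e => hS1 H hH (le_bot_iff.1 (e ▸ le_top))
    intro e
    have htop : comp x = ⊤ := top_le_iff.1 (e ▸ fun y hy => by simpa using (hK hx).1 hy 1)
    obtain ⟨A, hA, B, hB, hAB⟩ := hS2
    have hall : ∀ H ∈ S, H = ⊤ := fun H hH => by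
      obtain ⟨a, ha, ha1⟩ := H.bot_or_exists_ne_one.resolve_left (hS1 H hH)
      rw [(hcomp a ha1).2.2 H hH ha, heq a x ha1 (htop ▸ mem_top a), htop]
    exact hAB ((hall A hA).trans (hall B hB).symm)

/-- The classification of finite groups with a nontrivial partition. -/
theorem classification {K : G → Subgroup G} (h : IsNP K) :
    Nonempty (G ≃* Equiv.Perm (Fin 4)) ∨
    (∃ p : ℕ, p.Prime ∧ Subgroup.closure {g : G | g ^ p ≠ 1} ≠ ⊤) ∨
    (∃ H : Subgroup G, Cfsg.IsFrobeniusComplement H) ∨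
    (∃ (F : Type) (_ : Field F) (_ : Fintype F), 4 ≤ Fintype.card F ∧
        Nonempty (G ≃* Matrix.ProjectiveSpecialLinearGroup (Fin 2) F)) ∨
    (∃ (F : Type) (_ : Field F) (_ : Fintype F), 5 ≤ Fintype.card F ∧ Odd (Fintype.card F) ∧
        Nonempty (G ≃* (GL (Fin 2) F ⧸ Subgroup.center (GL (Fin 2) F)))) ∨
    Cfsg.Lie.IsoSuzuki G := by
  by_cases hnn : ∀ x : G, x ≠ 1 → normalizer (K x : Set G) ≠ ⊤
  swap
  · push Not at hnn
    obtain ⟨x, hx, hn⟩ := hnn
    haveI : (K x).Normal := normalizer_eq_top_iff.1 hn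
    rcases h.normal_case hx with e | e
    · exact Or.inr (Or.inl e)
    · exact Or.inr (Or.inr (Or.inl e))
  by_cases hesc : ∀ x : G, x ≠ 1 → normalizer (K x : Set G) ≠ K x
  swap
  · push Not at hesc
    obtain ⟨x, hx, hn⟩ := hesc
    refine Or.inr (Or.inr (Or.inl ⟨K x, fun e => hx (mem_bot.1 (e ▸ h.mem x)), h.ne_top x,
      fun g hg => ?_⟩))
    rw [eq_bot_iff]
    rintro y ⟨hy, hy'⟩
    replace hy' : y ∈ K (g * x * g⁻¹) := h.conj_component.1 (by simpa [Subgroup.pointwise_smul_def] using hy')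
    refine mem_bot.2 (by_contra fun hy1 => hg ?_)
    rw [← hn]
    refine h.mem_normalizer hx (h.mem x) ?_
    rw [h.eq_of_mem hy1 hy hy']
    exact h.mem _
  by_cases hss : IIGroups.SS G
  swap
  · simp only [IIGroups.SS, not_forall] at hss
    obtain ⟨N, hN, hNs, hN1⟩ := hss
    rcases h.solvable_case hnn hN1 hNs with e | e
    · exact Or.inl e
    · exact Or.inr (Or.inr (Or.inl e))
  by_cases hR : ∀ t u : G, orderOf t = 2 → orderOf u = 2 → Commute t u → K t = K u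
  · obtain ⟨t, H⟩ := h.no_pair hss hnn hesc hR
    rcases SuzukiUniq.hyp_iso H with ⟨F, iF, iFF, -, h4, -, he⟩ | e
    · exact Or.inr (Or.inr (Or.inr (Or.inl ⟨F, iF, iFF, h4, he⟩)))
    · exact Or.inr (Or.inr (Or.inr (Or.inr (Or.inr e))))
  push Not at hR
  obtain ⟨t, u, ht, hu, hc, hne⟩ := hR
  by_cases hall : ∀ t u : G, orderOf t = 2 → orderOf u = 2 → Commute t u → K t ≠ K u →
      ∀ c ∈ K t, c * c = 1
  · obtain ⟨F, iF, iFF, -, h4, -, he⟩ := h.exp_two_case hss hall ht hu hc hne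
    exact Or.inr (Or.inr (Or.inr (Or.inl ⟨F, iF, iFF, h4, he⟩)))
  push Not at hall
  obtain ⟨t', u', ht', hu', hc', hne', c, hcK, hcc⟩ := hall
  obtain ⟨F, iF, iFF, hodd, h3, e | e⟩ := h.pair_case hss ht' hu' hc' hne' ⟨c, hcK, hcc⟩
  · exact Or.inr (Or.inr (Or.inr (Or.inl ⟨F, iF, iFF, h3, e⟩)))
  · refine Or.inr (Or.inr (Or.inr (Or.inr (Or.inl ⟨F, iF, iFF, ?_, hodd, e⟩))))
    obtain ⟨j, hj⟩ := hodd
    omega

end Cfsg.Agent.Partition
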