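import Cfsg.Agent.Partition.Action
import Mathlib.GroupTheory.Transfer

/-!
# Partitions with a normal component
-/

set_option autoImplicit false
set_option linter.unusedSectionVars false

open Subgroup

namespace Cfsg.Agent.Partition

universe u

variable {G : Type u} [Group G] [Finite G]

theorem exists_center_prime {H : Subgroup G} (hH : Group.IsNilpotent H) {l : ℕ} (hl : l.Prime)
    (hd : l ∣ Nat.card H) : ∃ a ∈ omegaCenter l H, orderOf a = l := by
  have := Fact.mk hl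
  obtain ⟨L⟩ : Nonempty (Sylow l H) := inferInstance
  have hLn : (L : Subgroup H).Normal := Sylow.normal_of_normalizerCondition
    Group.normalizerCondition_of_isNilpotent L
  have hne := Core.inf_center_ne_bot (L.ne_bot_of_dvd_card hd)
  obtain ⟨z, ⟨hzL, hzc⟩, hz1⟩ := ((L : Subgroup H) ⊓ center H).bot_or_exists_ne_one.resolve_left hne
  obtain ⟨j, hj⟩ := IsPGroup.iff_orderOf.1 L.2 ⟨z, hzL⟩
  rw [Subgroup.orderOf_mk] at hj
  have hdz : l ∣ orderOf z := by
    rcases j with _ | j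
    · exact absurd (orderOf_eq_one_iff.1 (by rw [hj, pow_zero])) hz1
    · exact hj ▸ dvd_pow_self l j.succ_ne_zero
  set w := z ^ (orderOf z / l)
  have hwc : w ∈ center H := pow_mem hzc _
  have hwo : orderOf (w : G) = l := by rw [Subgroup.orderOf_coe]; exact exists_pow_order hdz
  exact ⟨w, ⟨w.2, hwo ▸ pow_orderOf_eq_one _,
    fun y hy => congrArg Subtype.val (mem_center_iff.1 hwc ⟨y, hy⟩)⟩, hwo⟩

theorem isPGroup_omegaCenter {l : ℕ} (H : Subgroup G) : IsPGroup l (omegaCenter l H) :=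
  fun a => ⟨1, Subtype.ext (by rw [pow_one]; exact a.2.2.1)⟩

variable {K : G → Subgroup G} (h : IsNP K) {x₀ : G}
include h

theorem IsNP.ne_comp {w x : G} (hw : w ∉ K x) {a : G} (ha : a ∈ K x) (ha1 : a ≠ 1) : K w ≠ K a :=
  fun e => hw (by rw [← h.eq ha1 ha, ← e]; exact h.mem w)

theorem IsNP.pow_not_mem {w x : G} (hw : w ∉ K x) {n : ℕ} (hn : w ^ n ≠ 1) : w ^ n ∉ K x :=
  fun hm => hw (by rw [← h.eq hn hm, h.pow_eq hn]; exact h.mem w)

theorem IsNP.orderOf_mk [hn : (K x₀).Normal] {w : G} (hw : w ∉ K x₀) :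
    orderOf (w : G ⧸ K x₀) = orderOf w := by
  refine Nat.dvd_antisymm (orderOf_map_dvd (QuotientGroup.mk' (K x₀)) w) (orderOf_dvd_of_pow_eq_one ?_)
  exact h.pow_eq_one_of_mem hw ((QuotientGroup.eq_one_iff _).1 (by
    rw [QuotientGroup.mk_pow, pow_orderOf_eq_one]))

/-- If a normal component contains two primes and some outside element fixes one of its
elements, then it has prime index and all outside elements have that order. -/
theorem IsNP.coset_order [hn : (K x₀).Normal] {g k : G} (hg : g ∉ K x₀) (hk : k ∈ K x₀)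
    (hk1 : k ≠ 1) (hc : Commute g k) (hnp : ¬ IsPGroup (orderOf g) (K x₀)) :
    (K x₀).index = orderOf g ∧ ∀ w, w ∉ K x₀ → w ^ orderOf g = 1 := by
  classical
  have hg1 : g ≠ 1 := fun e => hg (e ▸ one_mem _)
  obtain ⟨hog, hp⟩ := h.order_eq hc hg1 hk1 (h.ne_comp hg hk hk1)
  set p := orderOf g
  have := Fact.mk hp
  have hnil : Group.IsNilpotent (K x₀) := h.isNilpotent_component (fun e => h.ne_top x₀ (by
    rw [← e]; exact normalizer_eq_top_iff.2 hn))
  have hpX : p ∣ Nat.card (K x₀) := hog ▸ orderOf_dvd_natCard _ hk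
  obtain ⟨s, hs, hsX, hsp⟩ : ∃ s, s.Prime ∧ s ∣ Nat.card (K x₀) ∧ s ≠ p := by
    by_contra! hno
    exact hnp (IsPGroup.iff_card.mpr ⟨(Nat.card (K x₀)).primeFactorsList.length,
      Nat.eq_prime_pow_of_unique_prime_dvd Nat.card_pos.ne' fun hd he => hno _ hd he⟩)
  have hsame : ∀ {w a : G}, w ∉ K x₀ → a ∈ K x₀ → a ≠ 1 → Commute w a → orderOf w = orderOf a :=
    fun hw ha ha1 hwa => (h.order_eq hwa (fun e => hw (e ▸ one_mem _)) ha1 (h.ne_comp hw ha ha1)).1
  have hX : ∀ l, K x₀ ≤ centralizer ((omegaCenter l (K x₀) : Subgroup G) : Set G) := fun l y hy =>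
    mem_centralizer_iff.2 fun a ha => (ha.2.2 y hy).eq.symm
  have hAne : ∀ {l}, l.Prime → l ∣ Nat.card (K x₀) → omegaCenter l (K x₀) ≠ ⊥ := fun {l} hl hd e => by
    obtain ⟨a, ha, hao⟩ := exists_center_prime hnil hl hd
    rw [e, mem_bot] at ha
    rw [ha, orderOf_one] at hao
    exact hl.one_lt.ne hao
  have hAo : ∀ {l} {a : G}, l.Prime → a ∈ omegaCenter l (K x₀) → a ≠ 1 → orderOf a = l :=
    fun {l a} hl ha ha1 => by
      have := Fact.mk hl
      exact orderOf_eq_prime ha.2.1 ha1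
  -- no elements of order `p²` or `pq` outside
  have hsq : ∀ w, w ∉ K x₀ → ∀ j, orderOf w = p ^ j → w ^ p = 1 := by
    intro w hw j hj
    obtain ⟨a, ha, ha1, hca⟩ := exists_fixed (K x₀) (normalizer_eq_top_iff.2 hn ▸ mem_top w)
      (n := j) hp (hj ▸ pow_orderOf_eq_one w) hpX
    have hprime := (h.order_eq hca.symm (fun e => hw (e ▸ one_mem _)) ha1 (h.ne_comp hw ha ha1)).2
    rw [hj] at hprime
    rw [hprime.eq_one_of_pow, pow_one] at hj
    exact hj ▸ pow_orderOf_eq_one w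
  have hmix : ∀ (w : G) {q : ℕ}, w ∉ K x₀ → q.Prime → q ≠ p → p * q ∣ orderOf w → False := by
    intro w q hw hq hqp hd
    set w₁ := w ^ (orderOf w / p) with hw₁d
    set w₂ := w ^ (orderOf w / q) with hw₂d
    have ho1 : orderOf w₁ = p := exists_pow_order ((Dvd.intro q rfl).trans hd)
    have ho2 : orderOf w₂ = q := exists_pow_order ((Dvd.intro_left p rfl).trans hd)
    have h11 : w₁ ≠ 1 := fun e => hp.one_lt.ne (by rw [← ho1, e, orderOf_one])
    have h21 : w₂ ≠ 1 := fun e => hq.one_lt.ne (by rw [← ho2, e, orderOf_one])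
    have hw1 : w₁ ∉ K x₀ := h.pow_not_mem hw h11
    obtain ⟨a, ha, ha1, hca⟩ := exists_fixed (omegaCenter p (K x₀))
      ((normalizer_eq_top_iff.2 (omegaCenter_normal p (K x₀))) ▸ mem_top w₁) (n := 1) hp
      (by rw [pow_one, ← ho1, pow_orderOf_eq_one])
      (by
        obtain ⟨a, ha, hao⟩ := exists_center_prime hnil hp hpX
        exact hao.symm.dvd.trans (Subgroup.orderOf_dvd_natCard _ ha))
    have hinf : K x₀ ⊓ K w₁ = ⊥ :=
      h.inf_eq_bot (h.eq ha1 ha.1 ▸ (h.ne_comp hw1 ha.1 ha1).symm)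
    have hc2 : Commute a w₂ := commute_of_normalize hinf ha.1
      (by rw [h.pow_eq h11, ← h.pow_eq h21]; exact h.mem _)
      (h.mem_normalizer_of_commute h11 (h.mem _) hca) (normalizer_eq_top_iff.2 hn ▸ mem_top _)
    have := hsame (h.pow_not_mem hw h21) ha.1 ha1 hc2.symm
    rw [ho2, hAo hp ha ha1] at this
    exact hqp this
  have hbar : ∀ (u v : G ⧸ K x₀) {q : ℕ}, orderOf u = p → orderOf v = q → q.Prime → q ≠ p →
      Commute u v → False := by
    intro u v q hu hv hq hqp huv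
    have ho : orderOf (u * v) = p * q := by
      rw [huv.orderOf_mul_eq_mul_orderOf_of_coprime (by
        rw [hu, hv]; exact (Nat.coprime_primes hp hq).2 (Ne.symm hqp)), hu, hv]
    obtain ⟨w, hw⟩ := QuotientGroup.mk_surjective (u * v)
    have hwX : w ∉ K x₀ := fun hm => by
      rw [← hw, (QuotientGroup.eq_one_iff w).2 hm, orderOf_one] at ho
      nlinarith [hp.two_le, hq.two_le]
    rw [← hw, h.orderOf_mk hwX] at ho
    exact hmix w hwX hq hqp ho.symm.dvd
  have hlift : ∀ {v : G ⧸ K x₀} {q : ℕ}, orderOf v = q → q.Prime →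
      ∃ w : G, w ∉ K x₀ ∧ (w : G ⧸ K x₀) = v ∧ orderOf w = q := by
    intro v q hv hq
    obtain ⟨w, rfl⟩ := QuotientGroup.mk_surjective v
    have hwX : w ∉ K x₀ := fun hm => hq.one_lt.ne (by
      rw [← hv, (QuotientGroup.eq_one_iff w).2 hm, orderOf_one])
    exact ⟨w, hwX, rfl, by rw [← h.orderOf_mk hwX, hv]⟩
  obtain ⟨P⟩ : Nonempty (Sylow p (G ⧸ K x₀)) := inferInstance
  have hexp : ∀ v ∈ (P : Subgroup (G ⧸ K x₀)), v ≠ 1 → orderOf v = p := by
    intro v hv hv1
    obtain ⟨j, hj⟩ := IsPGroup.iff_orderOf.1 P.2 ⟨v, hv⟩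
    rw [Subgroup.orderOf_mk] at hj
    obtain ⟨w, rfl⟩ := QuotientGroup.mk_surjective v
    have hwX : w ∉ K x₀ := fun hm => hv1 ((QuotientGroup.eq_one_iff w).2 hm)
    exact orderOf_eq_prime (by rw [← QuotientGroup.mk_pow, hsq w hwX j (h.orderOf_mk hwX ▸ hj)]; rfl) hv1
  have hgb : orderOf (g : G ⧸ K x₀) = p := h.orderOf_mk hg
  have hPne : (P : Subgroup (G ⧸ K x₀)) ≠ ⊥ :=
    P.ne_bot_of_dvd_card (hgb ▸ orderOf_dvd_natCard _)
  obtain ⟨z, hzP, hzo, hzc⟩ := exists_central hp P.2 le_rfl le_normalizer hPne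
  obtain ⟨zl, hzlX, hzl, hzlo⟩ := hlift hzo hp
  have hcopl : ∀ {l}, l.Prime → l ≠ p → (Nat.card (omegaCenter l (K x₀))).Coprime p := by
    intro l hl hne
    have := Fact.mk hl
    obtain ⟨j, hj⟩ := IsPGroup.iff_card.1 (isPGroup_omegaCenter (l := l) (K x₀))
    rw [hj]
    exact ((Nat.coprime_primes hl hp).2 hne).pow_left j
  -- the Sylow subgroup of the quotient is cyclic
  have hPz : (P : Subgroup (G ⧸ K x₀)) = zpowers z := by
    refine le_antisymm (fun v hv => ?_) (zpowers_le.2 hzP)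
    by_contra hvz
    have hv1 : v ≠ 1 := fun e => hvz (e ▸ one_mem _)
    obtain ⟨vl, hvlX, hvl, hvlo⟩ := hlift (hexp v hv hv1) hp
    have hmem : zl ∈ centralizer ((omegaCenter s (K x₀) : Subgroup G) : Set G) := by
      refine Fusion.mem_centralizer_of_fpf_coset hp (omegaCenter_comm s (K x₀)) (hcopl hs hsp)
        (b := vl) (normalizer_eq_top_iff.2 (omegaCenter_normal s (K x₀)) ▸ mem_top _)
        (normalizer_eq_top_iff.2 (omegaCenter_normal s (K x₀)) ▸ mem_top _) ?_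
        (by rw [← hzlo, pow_orderOf_eq_one]; exact one_mem _)
        (by rw [← hvlo, pow_orderOf_eq_one]; exact one_mem _) fun i => ?_
      · refine hX s ((QuotientGroup.eq_one_iff _).1 ?_)
        simp only [QuotientGroup.mk_mul, QuotientGroup.mk_inv, hzl, hvl]
        rw [← (hzc v hv).eq]; group
      · rw [eq_bot_iff]
        rintro a ⟨ha, hca⟩
        by_contra ha1
        have ha1' : a ≠ 1 := fun e => ha1 (mem_bot.2 e)
        have hbarv : ((zl ^ i * vl : G) : G ⧸ K x₀) = z ^ i * v := by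
          simp only [QuotientGroup.mk_mul, QuotientGroup.mk_pow, hzl, hvl]
        have hne : z ^ i * v ≠ 1 := fun e => hvz (by
          rw [← inv_eq_of_mul_eq_one_right e]; exact inv_mem (pow_mem (mem_zpowers z) i))
        have hout : zl ^ i * vl ∉ K x₀ := fun hm => hne (hbarv ▸ (QuotientGroup.eq_one_iff _).2 hm)
        have := hsame hout ha.1 ha1' (show Commute a (zl ^ i * vl) from
          mem_centralizer_singleton_iff.1 hca).symm
        rw [hAo hs ha ha1', ← h.orderOf_mk hout, hbarv,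
          hexp _ (mul_mem (pow_mem hzP i) hv) hne] at this
        exact hsp this.symm
    obtain ⟨a, ha, hao⟩ := exists_center_prime hnil hs hsX
    have := hsame hzlX ha.1 (fun e => hs.one_lt.ne (by rw [← hao, e, orderOf_one]))
      (show Commute a zl from mem_centralizer_iff.1 hmem a ha).symm
    rw [hzlo, hao] at this
    exact hsp this.symm
  have hburn : normalizer ((P : Subgroup (G ⧸ K x₀)) : Set (G ⧸ K x₀)) ≤
      centralizer ((P : Subgroup (G ⧸ K x₀)) : Set (G ⧸ K x₀)) := by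
    intro n hnP
    have hq : ∀ q, q.Prime → q ∣ orderOf n → q = p := by
      intro q hq hqd
      by_contra hqp
      set v := n ^ (orderOf n / q)
      have hv : orderOf v = q := exists_pow_order hqd
      have hvn : v ∈ normalizer ((zpowers z : Subgroup (G ⧸ K x₀)) : Set (G ⧸ K x₀)) :=
        hPz ▸ pow_mem hnP _
      obtain ⟨w, hwX, hwv, hwo⟩ := hlift hv hq
      refine norm_contra (omegaCenter_comm s (K x₀)) (hX s) (fun a ha => ha.2.1) (hAne hs hsX)
        (zpowers z) ?_ w hq.pos (hwo ▸ pow_orderOf_eq_one w)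
        (fun b hb => by rw [hwv]; exact (mem_normalizer_iff.1 hvn b).1 hb) ?_ ?_ ?_
      · rw [Nat.card_zpowers, hzo]; exact (Nat.coprime_primes hs hp).2 hsp
      · intro i hi hiq b hb hcb
        by_contra hb1
        refine hbar b _ (hexp b (hPz.symm ▸ hb) hb1) ?_ hq hqp hcb.symm
        rw [hwv, orderOf_pow' _ hi.ne', hv, Nat.Coprime.gcd_eq_one (hq.coprime_iff_not_dvd.2
          (Nat.not_dvd_of_pos_of_lt hi hiq)), Nat.div_one]
      · intro a ha hall
        by_contra ha1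
        have := hsame hzlX ha.1 ha1 (hall zl (hzl ▸ mem_zpowers z))
        rw [hzlo, hAo hs ha ha1] at this
        exact hsp this.symm
      · exact fun a ha => h.coset_pow hwX (normalizer_eq_top_iff.2 hn ▸ mem_top w) ha.1
          (hwo ▸ pow_orderOf_eq_one w)
    have hpe : IsPGroup p (zpowers n) := IsPGroup.of_card (n := (orderOf n).primeFactorsList.length) (by
      rw [Nat.card_zpowers]
      exact Nat.eq_prime_pow_of_unique_prime_dvd (orderOf_pos n).ne' fun hd he => hq _ hd he)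
    have hnmem : n ∈ (P : Subgroup (G ⧸ K x₀)) :=
      P.3 (P.2.to_sup_of_normal_left' hpe (zpowers_le.2 hnP)) le_sup_left ▸
        mem_sup_right (mem_zpowers n)
    refine mem_centralizer_iff.2 fun y hy => ?_
    rw [SetLike.mem_coe, hPz] at hy
    rw [hPz] at hnmem
    obtain ⟨i, rfl⟩ := hy
    obtain ⟨j, rfl⟩ := hnmem
    exact (Commute.zpow_zpow (Commute.refl z) i j).eq
  have hM := MonoidHom.ker_transferSylow_isComplement' P hburn
  set M := (MonoidHom.transferSylow P hburn).ker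
  have hcardP : Nat.card (P : Subgroup (G ⧸ K x₀)) = p := by rw [hPz, Nat.card_zpowers, hzo]
  have hMidx : M.index = p := by rw [hM.symm.index_eq_card, hcardP]
  by_cases hMbot : M = ⊥
  · have hidx : (K x₀).index = p := by
      rw [← hMidx, hMbot, index_bot]; rfl
    refine ⟨hidx, fun w hw => ?_⟩
    have h1 : orderOf w ∣ (K x₀).index := h.orderOf_mk hw ▸ orderOf_dvd_natCard _
    exact orderOf_dvd_iff_pow_eq_one.1 (hidx ▸ h1)
  exfalso
  have hMp : ¬ p ∣ Nat.card M := MonoidHom.not_dvd_card_ker_transferSylow P hburn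
  obtain ⟨q, hq, hqd⟩ := Nat.exists_prime_and_dvd (fun e => hMbot (card_eq_one.1 e))
  have := Fact.mk hq
  have hqp : q ≠ p := fun e => hMp (e ▸ hqd)
  obtain ⟨Q⟩ : Nonempty (Sylow q M) := inferInstance
  set Q' : Subgroup (G ⧸ K x₀) := (Q : Subgroup M).map M.subtype with hQ'
  have hQq : IsPGroup q Q' := Q.2.map _
  obtain ⟨n, hnQ, hnM⟩ := SetLike.not_le_iff_exists.1
    (fun hle : normalizer (Q' : Set (G ⧸ K x₀)) ≤ M => hp.one_lt.ne (by
      rw [← hMidx, index_eq_one.2 (top_le_iff.1 ((Q.normalizer_sup_eq_top (N := M)).symm.le.trans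
        (sup_le hle le_rfl)))]))
  have hpn : p ∣ orderOf n := by
    have h1 : orderOf (n : (G ⧸ K x₀) ⧸ M) ∣ p := (_root_.orderOf_dvd_natCard _).trans hMidx.dvd
    rcases (Nat.dvd_prime hp).1 h1 with e | e
    · exact absurd ((QuotientGroup.eq_one_iff n).1 (orderOf_eq_one_iff.1 e)) hnM
    · exact e ▸ orderOf_map_dvd (QuotientGroup.mk' M) n
  set v := n ^ (orderOf n / p)
  have hv : orderOf v = p := exists_pow_order hpn
  have hvn : v ∈ normalizer (Q' : Set (G ⧸ K x₀)) := pow_mem hnQ _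
  obtain ⟨w, hwX, hwv, hwo⟩ := hlift hv hp
  have hQo : ∀ b ∈ Q', b ≠ 1 → ∃ e, orderOf (b ^ e) = q := fun b hb hb1 => by
    obtain ⟨j, hj⟩ := IsPGroup.iff_orderOf.1 hQq ⟨b, hb⟩
    rw [Subgroup.orderOf_mk] at hj
    rcases j with _ | j
    · exact absurd (orderOf_eq_one_iff.1 (by rw [hj, pow_zero])) hb1
    · exact ⟨_, exists_pow_order (hj ▸ dvd_pow_self q j.succ_ne_zero)⟩
  refine norm_contra (omegaCenter_comm p (K x₀)) (hX p) (fun a ha => ha.2.1) (hAne hp hpX)
    Q' ?_ w hp.pos (hwo ▸ pow_orderOf_eq_one w) (fun b hb => ?_) ?_ ?_ ?_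
  · obtain ⟨j, hj⟩ := IsPGroup.iff_card.1 hQq
    rw [hj]
    exact ((Nat.coprime_primes hp hq).2 (Ne.symm hqp)).pow_right j
  · rw [hwv]; exact (mem_normalizer_iff.1 hvn b).1 hb
  · intro i hi hip b hb hcb
    by_contra hb1
    obtain ⟨e, he⟩ := hQo b hb hb1
    refine hbar ((w : G ⧸ K x₀) ^ i) (b ^ e) ?_ he hq hqp (hcb.pow_right e)
    rw [hwv, orderOf_pow' _ hi.ne', hv, Nat.Coprime.gcd_eq_one (hp.coprime_iff_not_dvd.2
      (Nat.not_dvd_of_pos_of_lt hi hip)), Nat.div_one]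
  · intro a ha hall
    by_contra ha1
    obtain ⟨b, hb, hb1⟩ := Q'.bot_or_exists_ne_one.resolve_left (fun e => by
      rw [hQ', map_eq_bot_iff_of_injective _ M.subtype_injective] at e
      exact Q.ne_bot_of_dvd_card hqd e)
    obtain ⟨e, he⟩ := hQo b hb hb1
    obtain ⟨u, huX, hub, huo⟩ := hlift he hq
    have := hsame huX ha.1 ha1 (hall u (hub ▸ pow_mem hb e))
    rw [huo, hAo hp ha ha1] at this
    exact hqp this
  · exact fun a ha => h.coset_pow hwX (normalizer_eq_top_iff.2 hn ▸ mem_top w) ha.1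
      (hwo ▸ pow_orderOf_eq_one w)

/-- A normal component gives a proper Hughes subgroup or a Frobenius group. -/
theorem IsNP.normal_case [hn : (K x₀).Normal] (hx₀ : x₀ ≠ 1) :
    (∃ p : ℕ, p.Prime ∧ Subgroup.closure {g : G | g ^ p ≠ 1} ≠ ⊤) ∨
      ∃ H : Subgroup G, Cfsg.IsFrobeniusComplement H := by
  classical
  have hXne : K x₀ ≠ ⊥ := fun e => hx₀ (mem_bot.1 (e ▸ h.mem x₀))
  by_cases hfree : ∀ g, g ∉ K x₀ → ∀ k ∈ K x₀, Commute g k → k = 1
  · exact Or.inr (exists_frobenius_complement _ hXne (h.ne_top x₀) hfree)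
  push Not at hfree
  obtain ⟨g, hg, k, hk, hc, hk1⟩ := hfree
  obtain ⟨hog, hp⟩ := h.order_eq hc (fun e => hg (e ▸ one_mem _)) hk1 (h.ne_comp hg hk hk1)
  set p := orderOf g
  have := Fact.mk hp
  have hclose : (∀ w, w ∉ K x₀ → w ^ p = 1) → Subgroup.closure {w : G | w ^ p ≠ 1} ≠ ⊤ :=
    fun hall e => h.ne_top x₀ (top_le_iff.1 (e ▸ (closure_le _).2 fun w hw =>
      by_contra fun hwX => hw (hall w hwX)))
  by_cases hXp : IsPGroup p (K x₀)
  swap
  · exact Or.inl ⟨p, hp, hclose (h.coset_order hg hk hk1 hc hXp).2⟩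
  have hnorm : ∀ w : G, w ∈ normalizer (K x₀ : Set G) := fun w =>
    normalizer_eq_top_iff.2 hn ▸ mem_top w
  have hdX : p ∣ Nat.card (K x₀) := hog ▸ orderOf_dvd_natCard _ hk
  have hexp : ∀ w, w ∉ K x₀ → (∃ j : ℕ, w ^ p ^ j = 1) → w ^ p = 1 := by
    rintro w hw ⟨j, hj⟩
    obtain ⟨a, ha, ha1, hca⟩ := exists_fixed (K x₀) (hnorm w) hp hj hdX
    have hw1 : w ≠ 1 := fun e => hw (e ▸ one_mem _)
    have hprime := (h.order_eq hca.symm hw1 ha1 (h.ne_comp hw ha ha1)).2
    rw [← (Nat.prime_dvd_prime_iff_eq hprime hp).1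
      (hprime.dvd_of_dvd_pow (orderOf_dvd_of_pow_eq_one hj)), pow_orderOf_eq_one]
  have M : Mix p G := by
    intro x hx u
    obtain ⟨e, m, hm, ho⟩ := Nat.exists_eq_pow_mul_and_not_dvd (orderOf_pos (u : G)).ne' p hp.ne_one
    refine ⟨e, Subtype.ext ?_⟩
    by_contra hne
    set v := (u : G) ^ p ^ e
    have hv1 : v ≠ 1 := hne
    have hvo : orderOf v = m := by
      rw [orderOf_pow_of_dvd (pow_ne_zero _ hp.ne_zero) ⟨m, ho⟩, ho,
        Nat.mul_div_cancel_left _ (pow_pos hp.pos _)]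
    have hxv : Commute x v :=
      (show Commute x (u : G) from (mem_centralizer_singleton_iff.1 u.2).symm).pow_right _
    have hne' : orderOf x ≠ orderOf v := fun e1 => hm (hvo ▸ e1 ▸ hx.symm.dvd)
    have hx1 : x ≠ 1 := fun e1 => hp.one_lt.ne (by rw [← hx, e1, orderOf_one])
    have hvx := h.mem_of_commute hxv hx1 hv1 hne'
    by_cases hxX : x ∈ K x₀
    · obtain ⟨j, hj⟩ := IsPGroup.iff_orderOf.1 hXp ⟨v, h.eq hx1 hxX ▸ hvx⟩
      rw [Subgroup.orderOf_mk, hvo] at hj
      rcases j with _ | j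
      · exact hv1 (orderOf_eq_one_iff.1 (by rw [hvo, hj, pow_zero]))
      · exact hm (hj ▸ dvd_pow_self p j.succ_ne_zero)
    · obtain ⟨a, ha, ha1, hca⟩ := exists_fixed (K x₀) (hnorm x) (n := 1) hp
        (by rw [pow_one, ← hx, pow_orderOf_eq_one]) hdX
      have hav : Commute a v := commute_of_normalize
        (h.inf_eq_bot (h.eq ha1 ha ▸ (h.ne_comp hxX ha ha1).symm)) ha hvx
        (h.mem_normalizer_of_commute hx1 (h.mem x) hca) (hnorm v)
      have hao : orderOf a = orderOf x := ((h.order_eq hca.symm hx1 ha1 (h.ne_comp hxX ha ha1)).1).symm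
      refine hne' (hao ▸ (h.order_eq hav ha1 hv1 fun e1 => hxX ?_).1)
      rw [← h.eq ha1 ha, e1, h.eq hv1 hvx]; exact h.mem x
  set P := Cfsg.pCore p G with hPd
  have hXP : K x₀ ≤ P := Core.le_pCore hXp
  have hP : IsPGroup p P := Core.pCore_isPGroup
  have hPne : P ≠ ⊥ := fun e => hXne (le_bot_iff.1 (e ▸ hXP))
  by_cases hPt : P = ⊤
  · refine Or.inl ⟨p, hp, hclose fun w hw => hexp w hw ?_⟩
    obtain ⟨j, hj⟩ := hP ⟨w, hPt ▸ mem_top w⟩
    exact ⟨j, congrArg Subtype.val hj⟩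
  by_cases hd : p ∣ P.index
  swap
  · exact Or.inr (M.frobenius hp hP hPne hPt hd)
  exfalso
  by_cases hp2 : p = 2
  swap
  · exact M.not_dvd_index_of_odd hp hp2 hPne (fun w hw => hexp w fun hm => hw (hXP hm)) hd
  obtain ⟨yb, hyb⟩ := exists_prime_orderOf_dvd_card' (G := G ⧸ P) p hd
  obtain ⟨y, rfl⟩ := QuotientGroup.mk_surjective yb
  set A := omegaCenter p P ⊓ K x₀
  obtain ⟨a₀, ha₀X, ha₀, ha₀1⟩ := exists_omegaCenter hp hP hXP le_normalizer_of_normal hXne
  have hAne : A ≠ ⊥ := fun e => ha₀1 (mem_bot.1 (e ▸ ⟨ha₀, ha₀X⟩))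
  have hsq : ∀ w : G, orderOf (w : G ⧸ P) = p → w * w = 1 := by
    intro w hw
    have hwP : w ∉ P := fun hm => hp.one_lt.ne (by
      rw [← hw, (QuotientGroup.eq_one_iff w).2 hm, orderOf_one])
    obtain ⟨j, hj⟩ := hP ⟨w ^ p, (QuotientGroup.eq_one_iff _).1 (by
      rw [QuotientGroup.mk_pow]; exact orderOf_dvd_iff_pow_eq_one.1 hw.dvd)⟩
    have hj' : (w ^ p) ^ p ^ j = 1 := congrArg Subtype.val hj
    have := hexp w (fun hm => hwP (hXP hm)) ⟨j + 1, by rw [pow_succ', pow_mul, hj']⟩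
    rwa [hp2, sq] at this
  have hyC : y ∈ centralizer (A : Set G) := mem_centralizer_iff.2 fun a ha => by
    have h1 := hsq (a * y) (by
      rw [QuotientGroup.mk_mul, (QuotientGroup.eq_one_iff a).2 (hXP ha.2), one_mul, hyb])
    have h2 := hsq y hyb
    have h3 : a * a = 1 := by rw [← sq, ← hp2]; exact ha.1.2.1
    calc a * y = (a * y)⁻¹ := (inv_eq_of_mul_eq_one_right h1).symm
      _ = y * a := by
        rw [mul_inv_rev, inv_eq_of_mul_eq_one_right h2, inv_eq_of_mul_eq_one_right h3]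
  rw [(QuotientGroup.eq_one_iff y).2 (M.centralizer_le hp (hXp.to_le inf_le_right) hAne hyC),
    orderOf_one] at hyb
  exact hp.one_lt.ne hyb

end Cfsg.Agent.Partition
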